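import Groth.Agent.TameExt51.Ring
import Groth.Agent.RegLoc6.Normal
import Groth.Prelude.Def_Pi1
import Mathlib.AlgebraicGeometry.Stalk
import Mathlib.AlgebraicGeometry.Noetherian

/-!
# Smooth schemes over a discrete valuation ring
-/

set_option autoImplicit false
set_option linter.style.haveILetI false
set_option backward.isDefEq.respectTransparency false
set_option backward.isDefEq.respectTransparency.types false

universe u

open CategoryTheory CategoryTheory.Limits AlgebraicGeometry IsLocalRing

namespace Groth.Agent.TameExt51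

variable {R : Type u} [CommRing R] {X : Scheme.{u}} (g : X ⟶ Spec (CommRingCat.of R))

/-- A scalar as a global section. -/
noncomputable def gl (r : R) : Γ(X, ⊤) := ((Scheme.ΓSpecIso (CommRingCat.of R)).inv ≫ g.appTop).hom r

theorem gl_comp {Y : Scheme.{u}} (h : Y ⟶ X) (r : R) : gl (h ≫ g) r = h.appTop.hom (gl g r) := rfl

theorem gl_pow (r : R) (k : ℕ) : gl g (r ^ k) = gl g r ^ k := map_pow _ _ _

/-- Sections of a smooth scheme form a smooth algebra. -/
theorem smooth_secAlg [Smooth g] {B : X.Opens} (hB : IsAffineOpen B) :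
    letI := (((Scheme.ΓSpecIso (CommRingCat.of R)).inv ≫ g.appLE ⊤ B le_top).hom).toAlgebra
    Algebra.Smooth R Γ(X, B) := by
  letI := (((Scheme.ΓSpecIso (CommRingCat.of R)).inv ≫ g.appLE ⊤ B le_top).hom).toAlgebra
  rw [← RingHom.smooth_algebraMap, RingHom.algebraMap_toAlgebra, CommRingCat.hom_comp,
    RingHom.Smooth.respectsIso.cancel_left_isIso]
  exact g.smooth_appLE (isAffineOpen_top _) hB le_top

theorem isRegularLocalRing_stalk [IsRegularRing R] [Smooth g] (x : X) :
    IsRegularLocalRing (X.presheaf.stalk x) := by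
  obtain ⟨B, hB, hxB, -⟩ := exists_isAffineOpen_mem_and_subset (x := x) (U := ⊤) trivial
  letI := (((Scheme.ΓSpecIso (CommRingCat.of R)).inv ≫ g.appLE ⊤ B le_top).hom).toAlgebra
  haveI := smooth_secAlg g hB
  haveI := GeomReg.isRegularRing_of_smooth R Γ(X, B)
  let P := hB.primeIdealOf ⟨x, hxB⟩
  letI := TopCat.Presheaf.algebra_section_stalk X.presheaf (⟨x, hxB⟩ : B)
  haveI : IsLocalization.AtPrime (X.presheaf.stalk x) P.asIdeal := hB.isLocalization_stalk ⟨x, hxB⟩
  exact IsRegularLocalRing.of_ringEquiv (R := Localization.AtPrime P.asIdeal)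
    (IsLocalization.algEquiv P.asIdeal.primeCompl (Localization.AtPrime P.asIdeal) (X.presheaf.stalk x)).toRingEquiv

theorem isNormalScheme_of_smooth [IsRegularRing R] [Smooth g] : Pi1.IsNormalScheme X := fun x => by
  haveI := isRegularLocalRing_stalk g x
  exact ⟨RegLoc6.isDomain_of_isRegularLocalRing _, RegLoc6.isIntegrallyClosed_of_isRegularLocalRing _⟩

theorem isIntegral_of_smooth [IsRegularRing R] [Smooth g] [IrreducibleSpace X] : IsIntegral X := by
  haveI : ∀ x : X, _root_.IsReduced (X.presheaf.stalk x) := fun x => by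
    haveI := (isNormalScheme_of_smooth g x).1
    infer_instance
  haveI : AlgebraicGeometry.IsReduced X := isReduced_of_isReduced_stalk X
  exact (isIntegral_iff_irreducibleSpace_and_isReduced X).2 ⟨inferInstance, inferInstance⟩

variable [IsDomain R] [IsDiscreteValuationRing R] (t : R) (ht : Irreducible t) [Smooth g]

include ht in
theorem gl_affine {B : X.Opens} (hB : IsAffineOpen B) :
    let τ : Γ(X, B) := (X.presheaf.map (homOfLE le_top).op).hom (gl g t)
    τ ∈ nonZeroDivisors Γ(X, B) ∧ _root_.IsReduced (Γ(X, B) ⧸ Ideal.span {τ}) := by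
  letI := (((Scheme.ΓSpecIso (CommRingCat.of R)).inv ≫ g.appLE ⊤ B le_top).hom).toAlgebra
  haveI := smooth_secAlg g hB
  exact smooth_uniformizer t ht

include ht in
theorem gl_stalk (x : X) :
    let τ : X.presheaf.stalk x := (X.presheaf.germ ⊤ x trivial).hom (gl g t)
    τ ∈ nonZeroDivisors (X.presheaf.stalk x) ∧ _root_.IsReduced (X.presheaf.stalk x ⧸ Ideal.span {τ}) := by
  obtain ⟨B, hB, hxB, -⟩ := exists_isAffineOpen_mem_and_subset (x := x) (U := ⊤) trivial
  obtain ⟨h1, h2⟩ := gl_affine g t ht hB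
  let P := hB.primeIdealOf ⟨x, hxB⟩
  letI := TopCat.Presheaf.algebra_section_stalk X.presheaf (⟨x, hxB⟩ : B)
  haveI : IsLocalization.AtPrime (X.presheaf.stalk x) P.asIdeal := hB.isLocalization_stalk ⟨x, hxB⟩
  have h := localization_reduced_mod (S := X.presheaf.stalk x) P.asIdeal.primeCompl _ h1 h2
  have e : algebraMap Γ(X, B) (X.presheaf.stalk x) ((X.presheaf.map (homOfLE le_top).op).hom (gl g t)) =
      (X.presheaf.germ ⊤ x trivial).hom (gl g t) := TopCat.Presheaf.germ_res_apply X.presheaf (homOfLE le_top) x hxB (gl g t)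
  intro τ
  have : τ = algebraMap Γ(X, B) (X.presheaf.stalk x) ((X.presheaf.map (homOfLE le_top).op).hom (gl g t)) := e.symm
  rw [this]
  exact h

end Groth.Agent.TameExt51
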