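import Groth.Agent.Pi1X.NormalCover
import Groth.Agent.GalPtLib.FieldFEt
import Mathlib.FieldTheory.PrimitiveElement
import Mathlib.FieldTheory.Fixed
import Groth.Agent.GrpSchLib.SmoothReduced
import Mathlib.FieldTheory.Galois.Basic

/-!
# The generic fibre of a connected Galois cover of a normal integral scheme
-/

set_option autoImplicit false
set_option linter.style.haveILetI false
set_option backward.isDefEq.respectTransparency false
set_option backward.isDefEq.respectTransparency.types false

universe u

open CategoryTheory CategoryTheory.Limits AlgebraicGeometry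

namespace Groth.Agent.TameExt51

/-- The fibre over the generic point of a connected cover is one point. -/
theorem subsingleton_generic_fibre {P : Scheme.{u}} [IsIntegral P] (hP : Pi1.IsNormalScheme P) {W : Scheme.{u}}
    (h : W ⟶ P) [IsFinite h] [Etale h] [ConnectedSpace W] :
    (h.base ⁻¹' {genericPoint P}).Subsingleton ∧ (h.base ⁻¹' {genericPoint P}).Nonempty := by
  haveI := Pi1X.isIntegral_of_connected hP h
  obtain ⟨η, ⟨hη, hηg⟩, -⟩ := Pi1X.exists_unique_generization hP h (genericPoint W)
  have : η = genericPoint W := (genericPoint_specializes η).antisymm hηg |>.eq.symm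
  subst this
  refine ⟨fun a ha b hb => ?_, ⟨_, hη⟩⟩
  have key : ∀ c : W, h.base c = genericPoint P → c = genericPoint W := by
    intro c hc
    obtain ⟨η', -, huniq⟩ := Pi1X.exists_unique_generization hP h c
    exact (huniq c ⟨hc, specializes_rfl⟩).trans (huniq _ ⟨hη, genericPoint_specializes c⟩).symm
  exact (key a ha).trans (key b hb).symm

set_option maxHeartbeats 800000 in
-- category-theoretic bookkeeping
/-- The generic fibre of a connected Galois cover of degree `n` is a Galois field extension of degree `n`. -/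
theorem exists_galois_field {P : Scheme.{u}} [IsIntegral P] (hP : Pi1.IsNormalScheme P)
    (Xt : FEt.Cat P) [ConnectedSpace ↥Xt.left]
    (hgal : ∀ (Ω : Type u) [Field Ω] [IsAlgClosed Ω] (ξ : Spec (CommRingCat.of Ω) ⟶ P)
      (s s' : FEt.fiberObj ξ Xt), ∃ σ : Aut Xt, (FEt.fiber ξ).map σ.hom s = s')
    (n : ℕ) (hdeg : Nat.card (Aut Xt) = n)
    (F : Type u) [Field F] (φ : Spec (CommRingCat.of F) ⟶ P) [IsPreimmersion φ]
    (hφ : ∀ q : Spec (CommRingCat.of F), φ.base q = genericPoint P) :
    ∃ (L : Type u) (_ : Field L) (_ : Algebra F L), FiniteDimensional F L ∧ IsGalois F L ∧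
      Module.finrank F L = n ∧
      ∃ e : Spec (CommRingCat.of L) ≅ ((FEt.restrict φ).obj Xt).left,
        e.hom ≫ ((FEt.restrict φ).obj Xt).hom = Spec.map (CommRingCat.ofHom (algebraMap F L)) := by
  have hgen : genericPoint P ∈ Set.range φ.base := ⟨IsLocalRing.closedPoint F, hφ _⟩
  let xh : Xt.left ⟶ P := Xt.hom
  haveI : IsFinite xh := Xt.prop.1
  haveI : Etale xh := Xt.prop.2
  let Z : FEt.Cat (Spec (CommRingCat.of F)) := (FEt.restrict φ).obj Xt
  let zh : Z.left ⟶ Spec (CommRingCat.of F) := Z.hom
  haveI : IsFinite zh := Z.prop.1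
  haveI : Etale zh := Z.prop.2
  -- `Z` is one reduced point
  obtain ⟨hsub, c, hc⟩ := subsingleton_generic_fibre hP xh
  haveI : Subsingleton Z.left := by
    refine ⟨fun a b => (pullback.fst xh φ).isEmbedding.injective (hsub ?_ ?_)⟩
    · show xh.base ((pullback.fst xh φ).base a) = _
      rw [← Scheme.Hom.comp_apply, pullback.condition, Scheme.Hom.comp_apply]
      exact hφ _
    · show xh.base ((pullback.fst xh φ).base b) = _
      rw [← Scheme.Hom.comp_apply, pullback.condition, Scheme.Hom.comp_apply]
      exact hφ _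
  haveI : Nonempty Z.left := by
    have : c ∈ Set.range (pullback.fst xh φ).base := by
      rw [Scheme.Pullback.range_fst, Set.mem_preimage, Set.mem_singleton_iff.1 hc]
      exact hgen
    obtain ⟨z, -⟩ := this
    exact ⟨z⟩
  haveI : AlgebraicGeometry.IsReduced Z.left := GrpSchLib.isReduced_of_smooth_field zh
  haveI : IrreducibleSpace Z.left := by
    haveI : PreirreducibleSpace Z.left := ⟨(Set.subsingleton_univ).isPreirreducible⟩
    exact ⟨inferInstance⟩
  haveI : IsIntegral Z.left := (isIntegral_iff_irreducibleSpace_and_isReduced Z.left).2 ⟨inferInstance, inferInstance⟩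
  let L := Γ(Z.left, ⊤)
  let s₀ := GalPtLib.struct Z
  letI : Algebra F L := s₀.hom.toAlgebra
  obtain ⟨hfin, het⟩ := GalPtLib.struct_finite_etale Z
  haveI : Module.Finite F L := hfin
  haveI : Algebra.Etale F L := het
  haveI : IsDomain L := inferInstanceAs (IsDomain Γ(Z.left, ⊤))
  letI : Field L := (isField_of_isIntegral_of_isField' (Field.toIsField F) : IsField L).toField
  haveI : Algebra.IsSeparable F L := Algebra.FormallyUnramified.isSeparable F L
  refine ⟨L, inferInstance, inferInstance, inferInstance, ?_⟩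
  haveI : IsAffine Z.left := GalPtLib.isAffine_left Z
  let E : Spec (CommRingCat.of L) ≅ Z.left := Z.left.isoSpec.symm
  have hE : E.hom ≫ zh = Spec.map s₀ := (GalPtLib.struct_spec Z).symm
  have hs₀ : s₀ = CommRingCat.ofHom (algebraMap F L) := rfl
  -- automorphisms
  obtain ⟨hfull, hfaith⟩ := Pi1X.restrict_fullyFaithful_of_normal hP φ hgen
  haveI := hfull
  haveI := hfaith
  let A : Aut Xt ≃* Aut Z := (Functor.FullyFaithful.ofFullyFaithful (FEt.restrict φ)).autMulEquivOfFullyFaithful Xt
  let toAlg : Aut Z → (L ≃ₐ[F] L) := fun σ =>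
    AlgEquiv.ofRingEquiv (f := (asIso σ.hom.left.appTop).commRingCatIsoToRingEquiv) (fun a => by
      have h : s₀ ≫ σ.hom.left.appTop = s₀ := by
        apply Spec.map_injective
        rw [Spec.map_comp, ← hE, ← cancel_epi E.inv]
        simp only [E, Iso.symm_inv, Iso.symm_hom, Iso.hom_inv_id_assoc, ← Category.assoc]
        simp only [Category.assoc]
        rw [Scheme.isoSpec_hom_naturality_assoc, Iso.hom_inv_id_assoc]
        exact MorphismProperty.Over.w σ.hom
      exact congr($(h).hom a))
  have htoAlg : Function.Injective toAlg := by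
    intro σ τ h
    have h' : σ.hom.left.appTop = τ.hom.left.appTop := by
      ext a
      exact AlgEquiv.congr_fun h a
    apply Iso.ext
    apply MorphismProperty.Over.Hom.ext
    exact ext_of_isAffine h'
  have hfinAlg : Finite (L ≃ₐ[F] L) := inferInstance
  have hle : Nat.card (Aut Xt) ≤ Nat.card (L ≃ₐ[F] L) :=
    Nat.card_le_card_of_injective (toAlg ∘ A) (htoAlg.comp A.injective)
  -- a geometric point
  let Ω := AlgebraicClosure F
  let ξ : Spec (CommRingCat.of Ω) ⟶ P := GalPtLib.geomPt F ≫ φ
  let toFib : (L →ₐ[F] Ω) → FEt.fiberObj ξ Xt := fun χ =>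
    ⟨Spec.map (CommRingCat.ofHom χ.toRingHom) ≫ E.hom ≫ pullback.fst xh φ, by
      show (Spec.map _ ≫ E.hom ≫ pullback.fst xh φ) ≫ xh = GalPtLib.geomPt F ≫ φ
      have hz : E.hom ≫ pullback.snd xh φ = Spec.map s₀ := hE
      rw [Category.assoc, Category.assoc, pullback.condition, reassoc_of% hz, ← Spec.map_comp_assoc]
      congr 2
      ext a
      exact χ.commutes a⟩
  have htoFib : Function.Injective toFib := by
    intro χ χ' h
    have h' : Spec.map (CommRingCat.ofHom χ.toRingHom) ≫ E.hom = Spec.map (CommRingCat.ofHom χ'.toRingHom) ≫ E.hom := by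
      apply pullback.hom_ext
      · simpa only [Category.assoc] using congrArg Subtype.val h
      · have hz : E.hom ≫ pullback.snd xh φ = Spec.map s₀ := hE
        rw [Category.assoc, Category.assoc, hz, ← Spec.map_comp, ← Spec.map_comp]
        congr 1
        ext a
        exact (χ.commutes a).trans (χ'.commutes a).symm
    rw [cancel_mono E.hom] at h'
    exact AlgHom.ext fun a => congr($(Spec.map_injective h').hom a)
  have hfib : Nat.card (L →ₐ[F] Ω) ≤ Nat.card (Aut Xt) := by
    obtain ⟨χ₀⟩ : Nonempty (L →ₐ[F] Ω) := ⟨IsAlgClosed.lift⟩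
    haveI : Finite (Aut Xt) := Finite.of_injective (toAlg ∘ A) (htoAlg.comp A.injective)
    choose σ hσ using fun χ => hgal Ω ξ (toFib χ₀) (toFib χ)
    refine Nat.card_le_card_of_injective σ fun χ χ' h => htoFib ?_
    rw [← hσ χ, ← hσ χ', h]
  have hcard : Nat.card (L →ₐ[F] Ω) = Module.finrank F L := by
    rw [Nat.card_eq_fintype_card, AlgHom.card F L Ω]
  have hub : Nat.card (L ≃ₐ[F] L) ≤ Module.finrank F L := by
    rw [Nat.card_eq_fintype_card]
    exact AlgEquiv.card_le
  have hg : IsGalois F L := IsGalois.of_card_aut_eq_finrank F L (by omega)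
  exact ⟨hg, by omega, E, hE⟩

end Groth.Agent.TameExt51
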