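import Groth.Agent.TameExt51.Galois
import Mathlib.RingTheory.Smooth.Fiber
import Mathlib.RingTheory.DiscreteValuationRing.TFAE
import Mathlib.RingTheory.Flat.Basic
import Mathlib.RingTheory.Kaehler.Basic
import Mathlib.RingTheory.Nakayama
import Mathlib.RingTheory.LocalRing.Module
import Mathlib.RingTheory.IsTensorProduct
import Mathlib.LinearAlgebra.FreeModule.PID

/-!
# A finite étale model of a tame Galois algebra after adjoining a root of a uniformiser
-/

universe u

open IsLocalRing TensorProduct

namespace Groth.Agent.TameExt51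

/-- If the derivations are killed modulo an element of the Jacobson radical, the algebra is unramified. -/
theorem formallyUnramified_of_modEq (R D : Type u) [CommRing R] [CommRing D] [Algebra R D] [Algebra.EssFiniteType R D]
    (t : D) (ht : t ∈ Ideal.jacobson (⊥ : Ideal D))
    (h : ∀ x : D, (Ideal.span {t} • (⊤ : Submodule D (Ω[D⁄R]))).mkQ (KaehlerDifferential.D R D x) = 0) :
    Algebra.FormallyUnramified R D := by
  have : Module.Finite D (Ω[D⁄R]) := inferInstance
  have htop : (⊤ : Submodule D (Ω[D⁄R])) ≤ Ideal.span {t} • ⊤ := by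
    rw [← KaehlerDifferential.span_range_derivation, Submodule.span_le]
    rintro _ ⟨x, rfl⟩
    rw [KaehlerDifferential.span_range_derivation]
    exact (Submodule.Quotient.mk_eq_zero _).1 (h x)
  have hbot := Submodule.eq_bot_of_le_smul_of_le_jacobson_bot (Ideal.span {t}) ⊤
    Module.Finite.fg_top htop ((Ideal.span_singleton_le_iff_mem _).2 ht)
  refine ⟨⟨fun a b => ?_⟩⟩
  have ha : a ∈ (⊤ : Submodule D (Ω[D⁄R])) := trivial
  have hb : b ∈ (⊤ : Submodule D (Ω[D⁄R])) := trivial
  rw [hbot, Submodule.mem_bot] at ha hb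
  rw [ha, hb]

variable (O F L : Type u) [CommRing O] [IsDomain O] [IsDiscreteValuationRing O] [Field F] [Algebra O F]
  [IsFractionRing O F] [Field L] [Algebra F L] [FiniteDimensional F L] [IsGalois F L]
  (O₁ K₁ : Type u) [CommRing O₁] [IsDomain O₁] [IsDiscreteValuationRing O₁] [Field K₁] [Algebra O₁ K₁]
  [IsFractionRing O₁ K₁] [Algebra O O₁] [Algebra O K₁] [IsScalarTower O O₁ K₁] [Algebra F K₁]
  [IsScalarTower O F K₁]

set_option maxHeartbeats 800000 in
-- a long elementary construction
/-- The finite étale model. -/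
theorem exists_etale_model (ϖ : O) (hϖ : Irreducible ϖ) (t : O₁) (ht : Irreducible t)
    (htϖ : algebraMap O O₁ ϖ = t ^ Module.finrank F L) (hn : IsUnit ((Module.finrank F L : ℕ) : O)) :
    ∃ (D : Type u) (_ : CommRing D) (_ : Algebra O₁ D), Module.Finite O₁ D ∧ Algebra.Etale O₁ D ∧
      Nonempty (K₁ ⊗[O₁] D ≃ₐ[K₁] K₁ ⊗[F] L) := by
  classical
  let : Algebra O L := ((algebraMap F L).comp (algebraMap O F)).toAlgebra
  have : IsScalarTower O F L := IsScalarTower.of_algebraMap_eq' rfl
  let S := integralClosure O L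
  obtain ⟨π, v, e, ⟨m, hm⟩, hπe, hunr⟩ := exists_tame O F L S ϖ hϖ hn
  set n := Module.finrank F L
  have hn0 : n ≠ 0 := Module.finrank_pos.ne'
  have he0 : e ≠ 0 := fun h => hn0 (by rw [hm, h, zero_mul])
  have hm0 : m ≠ 0 := fun h => hn0 (by rw [hm, h, mul_zero])
  let M := K₁ ⊗[F] L
  have : IsScalarTower O O₁ M := IsScalarTower.of_algebraMap_eq fun x => by
    rw [IsScalarTower.algebraMap_apply O K₁ M, IsScalarTower.algebraMap_apply O₁ K₁ M,
      ← IsScalarTower.algebraMap_apply O O₁ K₁]
  let iL : L →+* M := (Algebra.TensorProduct.includeRight : L →ₐ[F] M).toRingHom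
  have hiL : ∀ x : O, iL (algebraMap O L x) = algebraMap O M x := fun x => by
    show (1 : K₁) ⊗ₜ[F] (algebraMap F L (algebraMap O F x)) = algebraMap O K₁ x ⊗ₜ[F] (1 : L)
    rw [IsScalarTower.algebraMap_apply O F K₁, Algebra.algebraMap_eq_smul_one,
      Algebra.algebraMap_eq_smul_one (A := K₁), smul_tmul]
  let φ : S →ₐ[O] M :=
    { toRingHom := iL.comp (S.val : S →ₐ[O] L).toRingHom
      commutes' := fun x => hiL x }
  have hπ0 : (π : L) ≠ 0 := by
    intro h
    have h2 := congrArg (fun z : S => (z : L)) hπe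
    simp only [MulMemClass.coe_mul, SubmonoidClass.coe_pow, h, zero_pow he0, mul_zero] at h2
    have h3 : algebraMap O L ϖ = 0 := h2
    rw [IsScalarTower.algebraMap_apply O F L, map_eq_zero] at h3
    exact hϖ.ne_zero (IsFractionRing.injective O F (by rw [h3, map_zero]))
  let s₀ : M := algebraMap O₁ M t ^ m * iL ((π : L)⁻¹)
  have hs₀π : s₀ * φ π = algebraMap O₁ M t ^ m := by
    show _ * iL ((S.val : S →ₐ[O] L) π) = _
    rw [Subalgebra.coe_val, mul_assoc, ← map_mul, inv_mul_cancel₀ hπ0, map_one, mul_one]
  have hs₀e : s₀ ^ e = φ (v : S) := by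
    have h1 : algebraMap O₁ M t ^ n = φ (v : S) * φ π ^ e := by
      rw [← map_pow φ, ← map_mul φ, ← hπe, AlgHom.commutes, ← map_pow, ← htϖ,
        ← IsScalarTower.algebraMap_apply]
    have h2 : φ π * iL ((π : L)⁻¹) = 1 := by
      show iL ((S.val : S →ₐ[O] L) π) * _ = _
      rw [Subalgebra.coe_val, ← map_mul, mul_inv_cancel₀ hπ0, map_one]
    calc s₀ ^ e = algebraMap O₁ M t ^ n * iL ((π : L)⁻¹) ^ e := by
          rw [show s₀ = algebraMap O₁ M t ^ m * iL ((π : L)⁻¹) from rfl, mul_pow, ← pow_mul, mul_comm m e, ← hm]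
      _ = φ (v : S) * (φ π * iL ((π : L)⁻¹)) ^ e := by rw [h1, mul_pow, mul_assoc]
      _ = φ (v : S) := by rw [h2, one_pow, mul_one]
  have hfinS : Module.Finite O S := IsIntegralClosure.finite O F L S
  obtain ⟨G, hG⟩ := (hfinS.fg_top : (⊤ : Submodule O S).FG)
  let X : Set M := insert s₀ (φ '' (G : Set S))
  let D := Algebra.adjoin O₁ X
  have hφD : ∀ x : S, φ x ∈ D := by
    intro x
    have hx : x ∈ Submodule.span O (G : Set S) := by rw [hG]; trivial
    induction hx using Submodule.span_induction with
    | mem y hy => exact Algebra.subset_adjoin (Or.inr ⟨y, hy, rfl⟩)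
    | zero => rw [map_zero]; exact zero_mem D
    | add a b _ _ ha hb => rw [map_add]; exact add_mem ha hb
    | smul c a _ ha => rw [map_smul, ← algebraMap_smul O₁ c (φ a)]; exact D.smul_mem ha _
  have hint : ∀ y : S, IsIntegral O₁ (φ y) := fun y =>
    ((Algebra.IsIntegral.isIntegral (R := O) y).map φ).tower_top
  have hXint : ∀ x ∈ X, IsIntegral O₁ x := by
    rintro x (rfl | ⟨y, -, rfl⟩)
    · exact IsIntegral.of_pow (Nat.pos_of_ne_zero he0) (hs₀e ▸ hint _)
    · exact hint y
  have hDfin : Module.Finite O₁ D :=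
    Algebra.finite_adjoin_of_finite_of_isIntegral ((G.finite_toSet.image φ).insert s₀) hXint
  -- torsion free
  have hinjM : Function.Injective (algebraMap K₁ M) := (algebraMap K₁ M).injective
  have hnzd : ∀ (a : O₁) (x : M), a ≠ 0 → a • x = 0 → x = 0 := fun a x ha hx => by
    rw [← algebraMap_smul K₁ a x] at hx
    exact (smul_eq_zero.1 hx).resolve_left (by
      simpa using (map_ne_zero_iff _ (IsFractionRing.injective O₁ K₁)).2 ha)
  have : Module.IsTorsionFree O₁ D := Module.IsTorsionFree.of_smul_eq_zero fun a x hx => by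
    rcases eq_or_ne a 0 with rfl | ha
    · exact Or.inl rfl
    · exact Or.inr (Subtype.ext (hnzd a x.1 ha (congrArg Subtype.val hx)))
  have : Module.Free O₁ D := Module.free_of_finite_type_torsion_free'
  -- unramified
  have : Algebra.EssFiniteType O₁ D := inferInstance
  let tD : D := algebraMap O₁ D t
  have htjac : tD ∈ Ideal.jacobson (⊥ : Ideal D) := by
    rw [Ideal.jacobson, Submodule.mem_sInf]
    rintro P ⟨-, hP⟩
    have h1 : Ideal.under O₁ P = maximalIdeal O₁ :=
      IsLocalRing.eq_maximalIdeal (have := hP; Ideal.IsMaximal.under O₁ P)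
    have h2 : t ∈ Ideal.under O₁ P := by rw [h1]; exact ht.not_isUnit
    exact h2
  let s : D := ⟨s₀, Algebra.subset_adjoin (Set.mem_insert _ _)⟩
  let φD : S →+* D := φ.toRingHom.codRestrict D hφD
  have hse : s ^ e = φD (v : S) := Subtype.ext (by simpa [s, φD] using hs₀e)
  have hsπ : s * φD π = tD ^ m := Subtype.ext (by simpa [s, φD, tD] using hs₀π)
  have hsu : IsUnit s := by
    have : IsUnit (s ^ e) := hse ▸ v.isUnit.map φD
    exact (isUnit_pow_iff he0).1 this
  have heu : IsUnit ((e : ℕ) : D) := by
    have h1 : IsUnit ((e : ℕ) : O) := by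
      have := hn; rw [hm, Nat.cast_mul] at this
      exact isUnit_of_mul_isUnit_left this
    have := h1.map ((algebraMap O₁ D).comp (algebraMap O O₁))
    rwa [map_natCast] at this
  have hDu : Algebra.FormallyUnramified O₁ D := by
    refine formallyUnramified_of_modEq O₁ D tD htjac ?_
    let N := Ideal.span {tD} • (⊤ : Submodule D (Ω[D⁄O₁]))
    let Q := (Ω[D⁄O₁]) ⧸ N
    let δ : Derivation O₁ D Q := N.mkQ.compDer (KaehlerDifferential.D O₁ D)
    suffices h : δ = 0 by
      intro x; exact congrArg (fun d : Derivation O₁ D Q => d x) h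
    have htQ : ∀ q : Q, tD • q = 0 := by
      intro q
      obtain ⟨w, rfl⟩ := Submodule.Quotient.mk_surjective N q
      rw [← Submodule.Quotient.mk_smul, Submodule.Quotient.mk_eq_zero]
      exact Submodule.smul_mem_smul (Ideal.mem_span_singleton_self _) trivial
    have hπQ : ∀ q : Q, φD π • q = 0 := by
      intro q
      obtain ⟨w, hw⟩ := hsu
      have : φD π = (↑w⁻¹ : D) * tD ^ m := by rw [← hsπ, ← hw, Units.inv_mul_cancel_left]
      rw [this, mul_smul, show m = (m - 1) + 1 by omega, pow_succ, mul_smul, htQ, smul_zero, smul_zero]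
    have hδtm : δ (tD ^ m) = 0 := by
      rw [show tD ^ m = algebraMap O₁ D (t ^ m) from (map_pow _ _ _).symm]
      exact δ.map_algebraMap _
    have hδπ : δ (φD π) = 0 := by
      obtain ⟨w, hw⟩ := hsu
      have h1 := hδtm
      rw [← hsπ, δ.leibniz, hπQ, add_zero, ← hw] at h1
      exact (IsUnit.smul_eq_zero w.isUnit).1 h1
    have hδS : ∀ y : S, δ (φD y) = 0 := by
      let : Module S Q := Module.compHom Q φD
      have htors : Module.IsTorsionBySet S Q (Ideal.span {π} : Set S) := by
        rintro q ⟨a, ha⟩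
        obtain ⟨c, rfl⟩ := Ideal.mem_span_singleton'.1 ha
        show φD (c * π) • q = 0
        rw [map_mul, mul_smul, hπQ, smul_zero]
      have hsm : ∀ (c : O) (q : Q), c • q = algebraMap O₁ D (algebraMap O O₁ c) • q := fun c q => by
        rw [← algebraMap_smul D c q]
        congr 1
        refine Subtype.ext ?_
        show algebraMap O M c = algebraMap O₁ M (algebraMap O O₁ c)
        exact IsScalarTower.algebraMap_apply O O₁ M c
      have : IsScalarTower O S Q := IsScalarTower.of_algebraMap_smul fun c q => by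
        rw [hsm]
        show φD (algebraMap O S c) • q = algebraMap O₁ D (algebraMap O O₁ c) • q
        congr 1
        refine Subtype.ext ?_
        show φ (algebraMap O S c) = algebraMap O₁ M (algebraMap O O₁ c)
        rw [AlgHom.commutes, ← IsScalarTower.algebraMap_apply]
      let : Module (S ⧸ Ideal.span {π}) Q := htors.module
      have : IsScalarTower O (S ⧸ Ideal.span {π}) Q := htors.isScalarTower
      have hδO : ∀ c : O, δ (φD (algebraMap O S c)) = 0 := fun c => by
        rw [show φD (algebraMap O S c) = algebraMap O₁ D (algebraMap O O₁ c) from Subtype.ext (by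
          show φ (algebraMap O S c) = algebraMap O₁ M (algebraMap O O₁ c)
          rw [AlgHom.commutes, ← IsScalarTower.algebraMap_apply])]
        exact δ.map_algebraMap _
      let g : S →ₗ[O] Q :=
        { toFun := fun y => δ (φD y)
          map_add' := fun a b => by simp only [map_add]
          map_smul' := fun c y => by
            show δ (φD (c • y)) = c • δ (φD y)
            rw [hsm]
            rw [Algebra.smul_def, map_mul, δ.leibniz, hδO, smul_zero, add_zero]
            congr 1
            refine Subtype.ext ?_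
            show φ (algebraMap O S c) = algebraMap O₁ M (algebraMap O O₁ c)
            rw [AlgHom.commutes, ← IsScalarTower.algebraMap_apply] }
      have hg : (Ideal.span {π}).restrictScalars O ≤ LinearMap.ker g := by
        intro a ha
        obtain ⟨c, rfl⟩ := Ideal.mem_span_singleton'.1 ha
        show δ (φD (c * π)) = 0
        rw [map_mul, δ.leibniz, hδπ, smul_zero, zero_add, hπQ]
      let gq : (S ⧸ Ideal.span {π}) →ₗ[O] Q :=
        (((Ideal.span {π}).restrictScalars O).liftQ g hg).comp
          (Submodule.Quotient.restrictScalarsEquiv O (Ideal.span {π})).symm.toLinearMap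
      let dd : Derivation O (S ⧸ Ideal.span {π}) Q := Derivation.mk' gq fun a b => by
        obtain ⟨a, rfl⟩ := Ideal.Quotient.mk_surjective a
        obtain ⟨b, rfl⟩ := Ideal.Quotient.mk_surjective b
        show δ (φD (a * b)) = φD a • δ (φD b) + φD b • δ (φD a)
        rw [map_mul, δ.leibniz]
      have : Subsingleton (Derivation O (S ⧸ Ideal.span {π}) Q) :=
        (KaehlerDifferential.linearMapEquivDerivation O (S ⧸ Ideal.span {π})).symm.injective.subsingleton
      intro y
      exact congrArg (fun d : Derivation O (S ⧸ Ideal.span {π}) Q => d (Ideal.Quotient.mk _ y))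
        (Subsingleton.elim dd 0)
    have hgen : Algebra.adjoin O₁ ((fun x : D => (x : M)) ⁻¹' X) = ⊤ := Algebra.adjoin_adjoin_coe_preimage
    refine Derivation.ext_of_adjoin_eq_top _ hgen ?_
    intro x hx
    rcases hx with hx | ⟨y, -, hy⟩
    · obtain rfl : x = s := Subtype.ext hx
      rw [Derivation.zero_apply]
      have h1 : δ (s ^ e) = 0 := by rw [hse]; exact hδS _
      rw [δ.leibniz_pow, ← Nat.cast_smul_eq_nsmul D] at h1
      exact (IsUnit.smul_eq_zero (hsu.pow _)).1 ((IsUnit.smul_eq_zero heu).1 h1)
    · obtain rfl : x = φD y := Subtype.ext hy.symm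
      rw [Derivation.zero_apply]
      exact hδS y
  have : Module.Flat O₁ D := inferInstance
  have : Algebra.FinitePresentation O₁ D := Algebra.FinitePresentation.of_finiteType.1 inferInstance
  refine ⟨D, inferInstance, inferInstance, hDfin, Algebra.Etale.of_formallyUnramified_of_flat, ?_⟩
  -- the generic fibre
  have hbc : IsBaseChange K₁ (D.val : D →ₐ[O₁] M).toLinearMap := by
    haveI : IsLocalizedModule (nonZeroDivisors O₁) (D.val : D →ₐ[O₁] M).toLinearMap := by
      refine ⟨fun a => ?_, fun y => ?_, fun {a b} h => ⟨1, by simpa using Subtype.ext h⟩⟩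
      · have hu : IsUnit (algebraMap O₁ (Module.End K₁ M) a.1) := by
          rw [IsScalarTower.algebraMap_apply O₁ K₁ (Module.End K₁ M)]
          exact (IsLocalization.map_units K₁ a).map _
        rw [Module.End.isUnit_iff] at hu ⊢
        exact hu
      · -- every element is a fraction
        suffices h : ∃ a : nonZeroDivisors O₁, (a.1 • y) ∈ D by
          obtain ⟨a, ha⟩ := h
          exact ⟨⟨⟨_, ha⟩, a⟩, rfl⟩
        induction y using TensorProduct.induction_on with
        | zero => exact ⟨1, by rw [smul_zero]; exact zero_mem D⟩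
        | tmul c l =>
          obtain ⟨a, ha⟩ : ∃ a : nonZeroDivisors O, IsIntegral O (a.1 • l) := by
            obtain ⟨m', hm'⟩ := IsIntegral.exists_multiple_integral_of_isLocalization (nonZeroDivisors O) l
              (Algebra.IsIntegral.isIntegral (R := F) l)
            exact ⟨m', hm'⟩
          obtain ⟨⟨x, b⟩, hb⟩ := IsLocalization.surj (nonZeroDivisors O₁) c
          have ha' : algebraMap O O₁ a.1 ≠ 0 := by
            intro h0
            have h1 := congrArg (algebraMap O₁ K₁) h0
            rw [← IsScalarTower.algebraMap_apply, IsScalarTower.algebraMap_apply O F K₁, map_zero, map_eq_zero]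
              at h1
            exact nonZeroDivisors.coe_ne_zero a (IsFractionRing.injective O F (by rw [h1, map_zero]))
          refine ⟨b * ⟨algebraMap O O₁ a.1, mem_nonZeroDivisors_of_ne_zero ha'⟩, ?_⟩
          have e1 : ((b : O₁) * algebraMap O O₁ a.1) • (c ⊗ₜ[F] l : M) =
              algebraMap O₁ M x * iL (a.1 • l) := by
            rw [Algebra.smul_def (A := L), map_mul, hiL, Algebra.smul_def, map_mul,
              ← IsScalarTower.algebraMap_apply O O₁ M]
            have e2 : algebraMap O₁ M x * iL l = algebraMap O₁ M b * (c ⊗ₜ[F] l : M) := by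
              show (algebraMap O₁ K₁ x ⊗ₜ[F] (1 : L)) * ((1 : K₁) ⊗ₜ[F] l) =
                (algebraMap O₁ K₁ b ⊗ₜ[F] (1 : L)) * (c ⊗ₜ[F] l)
              rw [Algebra.TensorProduct.tmul_mul_tmul, Algebra.TensorProduct.tmul_mul_tmul, ← hb,
                mul_comm c, mul_one, one_mul]
            rw [mul_left_comm, e2]
            ring
          show ((b : O₁) * algebraMap O O₁ a.1) • _ ∈ D
          rw [e1]
          exact D.mul_mem (D.algebraMap_mem x) (hφD ⟨_, ha⟩)
        | add y z hy hz =>
          obtain ⟨a, ha⟩ := hy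
          obtain ⟨b, hb⟩ := hz
          refine ⟨a * b, ?_⟩
          rw [smul_add]
          refine add_mem ?_ ?_
          · rw [Submonoid.coe_mul, mul_comm, mul_smul]; exact D.smul_mem ha _
          · rw [Submonoid.coe_mul, mul_smul]; exact D.smul_mem hb _
    exact IsLocalizedModule.isBaseChange (nonZeroDivisors O₁) K₁ _
  let ψ : K₁ ⊗[O₁] D →ₐ[K₁] M := Algebra.TensorProduct.lift (Algebra.ofId K₁ M) D.val (fun _ _ => Commute.all _ _)
  refine ⟨AlgEquiv.ofBijective ψ ?_⟩
  have hψ : (ψ : K₁ ⊗[O₁] D → M) = hbc.equiv := by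
    funext z
    induction z using TensorProduct.induction_on with
    | zero => simp
    | tmul c d =>
      rw [hbc.equiv_tmul]
      show algebraMap K₁ M c * (d : M) = c • (d : M)
      rw [← Algebra.smul_def]
    | add a b ha hb => rw [map_add, map_add, ha, hb]
  rw [hψ]
  exact hbc.equiv.bijective

end Groth.Agent.TameExt51
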