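import Groth.Agent.TameExt51.Sch
import Groth.Agent.TameExt51.Model
import Groth.Agent.TameExt51.Fibre
import Groth.Agent.Pi1Ext.Spread
import Groth.Agent.Pi1Ext.PuritySch

/-!
# Extending a tame cover over each point of the special fibre
-/

set_option autoImplicit false
set_option linter.style.haveILetI false
set_option backward.isDefEq.respectTransparency false
set_option backward.isDefEq.respectTransparency.types false

universe u

open CategoryTheory CategoryTheory.Limits AlgebraicGeometry IsLocalRing TensorProduct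
open Groth.Agent.Pi1Ext

noncomputable section

namespace Groth.Agent.TameExt51

/-- The fraction field of a DVR is the localisation away from a uniformizer. -/
theorem isLocalization_away_fraction (R K : Type u) [CommRing R] [IsDomain R] [IsDiscreteValuationRing R] [Field K]
    [Algebra R K] [IsFractionRing R K] {t : R} (ht : Irreducible t) : IsLocalization.Away t K := by
  have hinj : Function.Injective (algebraMap R K) := IsFractionRing.injective R K
  constructor
  constructor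
  · rintro ⟨_, k, rfl⟩
    exact IsUnit.mk0 _ ((map_ne_zero_iff _ hinj).2 (pow_ne_zero _ ht.ne_zero))
  · intro z
    obtain ⟨a, b, hb, rfl⟩ := IsFractionRing.div_surjective (A := R) z
    obtain ⟨k, u, rfl⟩ := IsDiscreteValuationRing.eq_unit_mul_pow_irreducible (nonZeroDivisors.ne_zero hb) ht
    refine ⟨(a * ↑u⁻¹, ⟨t ^ k, k, rfl⟩), ?_⟩
    simp only [map_mul, map_pow]
    have h1 : algebraMap R K ↑u⁻¹ * algebraMap R K ↑u = 1 := by rw [← map_mul]; simp
    have h2 : algebraMap R K t ≠ 0 := (map_ne_zero_iff _ hinj).2 ht.ne_zero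
    field_simp
    linear_combination (-(algebraMap R K a)) * h1
  · intro x y hxy
    exact ⟨1, by rw [hinj hxy]⟩

/-- Pullback of `Spec B` to `Spec C` is `Spec (C ⊗ B)`. -/
theorem exists_pullIso {A : Type u} [CommRing A] (B C : Type u) [CommRing B] [CommRing C] [Algebra A B] [Algebra A C]
    (Z : FEt.Cat (Spec (CommRingCat.of A))) (e : Spec (CommRingCat.of B) ≅ Z.left)
    (he : e.hom ≫ Z.hom = Spec.map (CommRingCat.ofHom (algebraMap A B))) :
    ∃ i : Spec (CommRingCat.of (C ⊗[A] B)) ≅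
        ((FEt.restrict (Spec.map (CommRingCat.ofHom (algebraMap A C)))).obj Z).left,
      i.hom ≫ ((FEt.restrict (Spec.map (CommRingCat.ofHom (algebraMap A C)))).obj Z).hom =
        Spec.map (CommRingCat.ofHom (algebraMap C (C ⊗[A] B))) := by
  let sB := Spec.map (CommRingCat.ofHom (algebraMap A B))
  let sC := Spec.map (CommRingCat.ofHom (algebraMap A C))
  let m := pullback.map sC sB sC Z.hom (𝟙 _) e.hom (𝟙 _) (by simp) (by simp [sB, he])
  refine ⟨(pullbackSpecIso A C B).symm ≪≫ asIso m ≪≫ pullbackSymmetry sC Z.hom, ?_⟩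
  show ((pullbackSpecIso A C B).inv ≫ m ≫ (pullbackSymmetry sC Z.hom).hom) ≫ pullback.snd Z.hom sC = _
  rw [Category.assoc, Category.assoc, pullbackSymmetry_hom_comp_snd, pullback.lift_fst, Category.comp_id,
    pullbackSpecIso_inv_fst']

/-- Finite étale extension over the spectrum of a DVR. -/
theorem exists_model_cover {O F L O₁ K₁ : Type u} [CommRing O] [IsDomain O] [IsDiscreteValuationRing O]
    [Field F] [Algebra O F] [IsFractionRing O F] [Field L] [Algebra F L] [FiniteDimensional F L] [IsGalois F L]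
    [CommRing O₁] [IsDomain O₁] [IsDiscreteValuationRing O₁] [Field K₁] [Algebra O₁ K₁]
    [IsFractionRing O₁ K₁] [Algebra O O₁] [Algebra O K₁] [IsScalarTower O O₁ K₁] [Algebra F K₁]
    [IsScalarTower O F K₁] (ϖ : O) (hϖ : Irreducible ϖ) (t : O₁) (ht : Irreducible t)
    (htϖ : algebraMap O O₁ ϖ = t ^ Module.finrank F L) (hn : IsUnit ((Module.finrank F L : ℕ) : O))
    (Z : FEt.Cat (Spec (CommRingCat.of F))) (e : Spec (CommRingCat.of L) ≅ Z.left)
    (he : e.hom ≫ Z.hom = Spec.map (CommRingCat.ofHom (algebraMap F L))) :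
    ∃ Ex : FEt.Cat (Spec (CommRingCat.of O₁)), Nonempty
      ((FEt.restrict (Spec.map (CommRingCat.ofHom (algebraMap O₁ K₁)))).obj Ex ≅
        (FEt.restrict (Spec.map (CommRingCat.ofHom (algebraMap F K₁)))).obj Z) := by
  obtain ⟨D, _, _, hfin, het, ⟨a⟩⟩ := exists_etale_model O F L O₁ K₁ ϖ hϖ t ht htϖ hn
  let Ex : FEt.Cat (Spec (CommRingCat.of O₁)) := MorphismProperty.Over.mk ⊤
    (Spec.map (CommRingCat.ofHom (algebraMap O₁ D))) (PuritySch.fet_sp_iff.2 ⟨hfin, het⟩)
  obtain ⟨i, hi⟩ := exists_pullIso D K₁ Ex (Iso.refl _) (Category.id_comp _)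
  obtain ⟨j, hj⟩ := exists_pullIso L K₁ Z e he
  let s : Spec (CommRingCat.of (K₁ ⊗[O₁] D)) ≅ Spec (CommRingCat.of (K₁ ⊗[F] L)) :=
    Scheme.Spec.mapIso a.toRingEquiv.toCommRingCatIso.symm.op
  refine ⟨Ex, ⟨MorphismProperty.Over.isoMk (i.symm ≪≫ s ≪≫ j) ?_⟩⟩
  rw [Iso.trans_hom, Iso.trans_hom, Category.assoc, Category.assoc, hj, Iso.symm_hom, Iso.inv_comp_eq, hi]
  show Spec.map _ ≫ Spec.map _ = Spec.map _
  rw [← Spec.map_comp]
  congr 1
  ext x
  exact a.symm.commutes x

theorem image_bot_eq_genericPoint {X : Scheme.{u}} [IsIntegral X] (x : X) [IsDomain (X.presheaf.stalk x)]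
    (q : Spec (CommRingCat.of (X.presheaf.stalk x))) (hq : q.asIdeal = ⊥) :
    (X.fromSpecStalk x).base q = genericPoint X := by
  obtain ⟨P, hP⟩ : genericPoint X ∈ Set.range (X.fromSpecStalk x).base := by
    rw [Scheme.range_fromSpecStalk]
    exact genericPoint_specializes x
  have h1 : q ⤳ P := (PrimeSpectrum.le_iff_specializes q P).1 (show q.asIdeal ≤ P.asIdeal by rw [hq]; exact bot_le)
  have h2 := h1.map (X.fromSpecStalk x).continuous
  rw [hP] at h2
  exact h2.antisymm (genericPoint_specializes _) |>.eq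

section

variable (V K : Type u) [CommRing V] [IsDomain V] [IsDiscreteValuationRing V] [Field K] [Algebra V K]
  [IsFractionRing V K] (ϖ : V) (hϖ : Irreducible ϖ)
  {X : Scheme.{u}} (f : X ⟶ Spec (CommRingCat.of V))

local notation "jη" => pullback.fst f (Spec.map (CommRingCat.ofHom (algebraMap V K)))

include hϖ in
theorem isOpenImmersion_generic : IsOpenImmersion (Spec.map (CommRingCat.ofHom (algebraMap V K))) :=
  haveI := isLocalization_away_fraction V K hϖ
  IsOpenImmersion.of_isLocalization ϖ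

theorem basicOpen_gl {R : Type u} [CommRing R] {Y : Scheme.{u}} (g : Y ⟶ Spec (CommRingCat.of R)) (r : R) :
    Y.basicOpen (gl g r) = g ⁻¹ᵁ (PrimeSpectrum.basicOpen r) := by
  rw [gl, CommRingCat.comp_apply, ← Scheme.preimage_basicOpen_top, basicOpen_eq_of_affine]

include hϖ in
theorem range_generic : Set.range (jη).base = (X.basicOpen (gl f ϖ) : Set X) := by
  haveI := isLocalization_away_fraction V K hϖ
  rw [Scheme.Pullback.range_fst, basicOpen_gl]
  exact congrArg (f.base ⁻¹' ·) (PrimeSpectrum.localization_away_comap_range K ϖ)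

end

variable {V K : Type u} [CommRing V] [IsDomain V] [IsDiscreteValuationRing V] [Field K] [Algebra V K]
  [IsFractionRing V K] {ϖ : V}
  {V₁ : Type u} [CommRing V₁] [IsDomain V₁] [IsDiscreteValuationRing V₁] [Algebra V V₁] {t : V₁}
  {X : Scheme.{u}} {f : X ⟶ Spec (CommRingCat.of V)}

local notation "jη" => pullback.fst f (Spec.map (CommRingCat.ofHom (algebraMap V K)))
local notation "Pη" => pullback f (Spec.map (CommRingCat.ofHom (algebraMap V K)))

set_option maxHeartbeats 1600000 in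
-- a long argument at one point
/-- The extension over the local ring at a point of the special fibre with one-dimensional local ring. -/
theorem exists_dvr_extension (hϖ : Irreducible ϖ) (ht : Irreducible t) {n : ℕ} (htn : t ^ n = algebraMap V V₁ ϖ)
    (hn : IsUnit (n : V)) [Smooth f] [IsIntegral X] (Xt : FEt.Cat Pη) [ConnectedSpace ↥Xt.left]
    (hgal : ∀ (Ω : Type u) [Field Ω] [IsAlgClosed Ω] (ξ : Spec (CommRingCat.of Ω) ⟶ Pη)
      (s s' : FEt.fiberObj ξ Xt), ∃ σ : Aut Xt, (FEt.fiber ξ).map σ.hom s = s')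
    (hdeg : Nat.card (Aut Xt) = n)
    {Y : Scheme.{u}} (p : Y ⟶ X) [Flat p] (g : Y ⟶ Spec (CommRingCat.of V₁)) [Smooth g]
    (hcomm : p ≫ f = g ≫ Spec.map (CommRingCat.ofHom (algebraMap V V₁)))
    (U₀ : Y.Opens) (hU₀ : U₀ = Y.basicOpen (gl g t)) (pη : (U₀ : Scheme.{u}) ⟶ Pη) (hpη : pη ≫ jη = U₀.ι ≫ p)
    (U : Y.Opens) (hle : U₀ ≤ U) (W : FEt.Cat (U : Scheme.{u}))
    (eW : (FEt.restrict (Y.homOfLE hle)).obj W ≅ (FEt.restrict pη).obj Xt)
    (x : Y) (hx : x ∉ U) (hmin : ∀ y, y ⤳ x → y ≠ x → y ∈ U)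
    (hdim : ringKrullDim (Y.presheaf.stalk x) < 2) :
    ∃ Ex : FEt.Cat (Spec (Y.presheaf.stalk x)), Nonempty
      ((FEt.restrict (pullback.snd U.ι (Y.fromSpecStalk x))).obj Ex ≅
        (FEt.restrict (pullback.fst U.ι (Y.fromSpecStalk x))).obj W) := by
  haveI := isOpenImmersion_generic V K ϖ hϖ
  -- the local rings
  let O₁ := Y.presheaf.stalk x
  haveI : IsRegularLocalRing O₁ := isRegularLocalRing_stalk g x
  haveI : IsDomain O₁ := RegLoc6.isDomain_of_isRegularLocalRing _
  let τ : O₁ := (Y.presheaf.germ ⊤ x trivial).hom (gl g t)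
  have hτm : τ ∈ maximalIdeal O₁ := by
    intro hu
    exact hx (hle (hU₀ ▸ (Y.mem_basicOpen_top (gl g t) x).2 hu))
  obtain ⟨hτnzd, hτred⟩ := gl_stalk g t ht x
  have hτ0 : τ ≠ 0 := nonZeroDivisors.ne_zero hτnzd
  haveI : IsDiscreteValuationRing O₁ := isDVR_of_regular_dim_le_one hdim hτ0 hτm
  have hτirr : Irreducible τ := irreducible_of_reduced_mod hτ0 hτm hτred
  let x₀ : X := p.base x
  let O := X.presheaf.stalk x₀
  haveI : IsRegularLocalRing O := isRegularLocalRing_stalk f x₀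
  let ψ : O →+* O₁ := (p.stalkMap x).hom
  letI : Algebra O O₁ := ψ.toAlgebra
  haveI : IsLocalHom (algebraMap O O₁) := inferInstanceAs (IsLocalHom (p.stalkMap x).hom)
  haveI : Module.Flat O O₁ := (Flat.stalkMap p x : ψ.Flat)
  haveI : Module.FaithfullyFlat O O₁ := Module.FaithfullyFlat.of_flat_of_isLocalHom
  let ϖO : O := (X.presheaf.germ ⊤ x₀ trivial).hom (gl f ϖ)
  have hψ : algebraMap O O₁ ϖO = τ ^ n := by
    show (p.stalkMap x).hom ((X.presheaf.germ ⊤ x₀ trivial).hom (gl f ϖ)) = _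
    rw [Scheme.Hom.germ_stalkMap_apply, ← map_pow, ← gl_pow, htn]
    have h : gl g (algebraMap V V₁ ϖ) = gl (p ≫ f) ϖ := by
      rw [hcomm]
      simp only [gl, Scheme.Hom.comp_appTop, ← Category.assoc]
      rw [← Scheme.ΓSpecIso_inv_naturality]
      rfl
    rw [h]
    rfl
  have hn0 : n ≠ 0 := by rintro rfl; simp at hn
  have hϖOm : ϖO ∈ maximalIdeal O := by
    intro hu
    have := hu.map (algebraMap O O₁)
    rw [hψ, isUnit_pow_iff hn0] at this
    exact hτm this
  obtain ⟨_, _⟩ := isDVR_of_faithfullyFlat (S := O₁) (τ := ϖO) (by rw [hψ]; exact pow_ne_zero _ hτ0) hϖOm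
  obtain ⟨hϖnzd, hϖred⟩ := gl_stalk f ϖ hϖ x₀
  have hϖirr : Irreducible ϖO := irreducible_of_reduced_mod (nonZeroDivisors.ne_zero hϖnzd) hϖOm hϖred
  have hnO : IsUnit ((n : ℕ) : O) := by
    have := hn.map ((X.presheaf.germ ⊤ x₀ trivial).hom.comp ((Scheme.ΓSpecIso (CommRingCat.of V)).inv ≫ f.appTop).hom)
    rwa [map_natCast] at this
  let F := FractionRing O
  let K₁ := FractionRing O₁
  have hinj : Function.Injective (algebraMap O K₁) := by
    rw [IsScalarTower.algebraMap_eq O O₁ K₁]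
    exact (IsFractionRing.injective O₁ K₁).comp (FaithfulSMul.algebraMap_injective O O₁)
  letI : Algebra F K₁ := (IsFractionRing.lift hinj : F →+* K₁).toAlgebra
  haveI : IsScalarTower O F K₁ := IsScalarTower.of_algebraMap_eq fun a => (IsFractionRing.lift_algebraMap hinj a).symm
  -- the generic point
  let sF : Spec (CommRingCat.of F) ⟶ X := Spec.map (CommRingCat.ofHom (algebraMap O F)) ≫ X.fromSpecStalk x₀
  have hsF : ∀ q, sF.base q = genericPoint X := by
    intro q
    rw [Scheme.Hom.comp_apply]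
    apply image_bot_eq_genericPoint
    show Ideal.comap (algebraMap O F) q.asIdeal = ⊥
    rw [show q.asIdeal = ⊥ from (Ideal.eq_bot_or_top _).resolve_right q.2.ne_top]
    exact Ideal.comap_bot_of_injective _ (IsFractionRing.injective O F)
  let xh : Xt.left ⟶ Pη := Xt.hom
  haveI hne : Nonempty ↥Pη := ⟨xh.base (Classical.arbitrary ↥Xt.left)⟩
  haveI : IsIntegral Pη := isIntegral_of_isOpenImmersion jη
  have hrangeF : Set.range sF.base ⊆ Set.range (jη).base := by
    rintro _ ⟨q, rfl⟩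
    exact ⟨genericPoint ↥Pη, (genericPoint_eq_of_isOpenImmersion jη).trans (hsF q).symm⟩
  let φ : Spec (CommRingCat.of F) ⟶ Pη := IsOpenImmersion.lift jη sF hrangeF
  have hφ : φ ≫ jη = sF := IsOpenImmersion.lift_fac _ _ _
  haveI : IsPreimmersion (Spec.map (CommRingCat.ofHom (algebraMap O F))) :=
    IsPreimmersion.of_isLocalization (nonZeroDivisors O)
  haveI : IsPreimmersion φ := by
    haveI : IsPreimmersion (φ ≫ jη) := by rw [hφ]; infer_instance
    exact IsPreimmersion.of_comp φ jη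
  have hφgen : ∀ q, φ.base q = genericPoint ↥Pη := fun q => (jη).isOpenEmbedding.injective (by
    rw [genericPoint_eq_of_isOpenImmersion jη, ← Scheme.Hom.comp_apply, hφ, hsF])
  haveI : Smooth (pullback.snd f (Spec.map (CommRingCat.ofHom (algebraMap V K)))) :=
    MorphismProperty.pullback_snd f _ inferInstance
  obtain ⟨L, _, _, _, _, hrank, e, he⟩ := exists_galois_field
    (isNormalScheme_of_smooth (pullback.snd f (Spec.map (CommRingCat.ofHom (algebraMap V K))))) Xt hgal n hdeg F φ hφgen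
  obtain ⟨Ex, ⟨iEx⟩⟩ := exists_model_cover (K₁ := K₁) ϖO hϖirr τ hτirr (by rw [hrank]; exact hψ)
    (by rw [hrank]; exact hnO) _ e he
  -- `U ×_Y Spec O₁ = Spec K₁`
  let i₁ : Spec (CommRingCat.of K₁) ⟶ Spec (CommRingCat.of O₁) := Spec.map (CommRingCat.ofHom (algebraMap O₁ K₁))
  haveI := isLocalization_away_fraction O₁ K₁ hτirr
  haveI : IsOpenImmersion i₁ := IsOpenImmersion.of_isLocalization τ
  haveI : IsPreimmersion (Y.fromSpecStalk x) := inferInstance
  have hr : Set.range i₁.base = Set.range (pullback.snd U.ι (Y.fromSpecStalk x)).base := by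
    rw [Scheme.Pullback.range_snd, Scheme.Opens.range_ι]
    show Set.range (PrimeSpectrum.comap (algebraMap O₁ K₁)) = _
    rw [PrimeSpectrum.localization_away_comap_range K₁ τ]
    ext q
    show τ ∉ q.asIdeal ↔ (Y.fromSpecStalk x).base q ∈ U
    constructor
    · intro hq
      refine hmin _ ((Scheme.range_fromSpecStalk (X := Y)).subset ⟨q, rfl⟩) fun h => hq ?_
      have : q = closedPoint O₁ := (Y.fromSpecStalk x).isEmbedding.injective
        (h.trans Scheme.fromSpecStalk_closedPoint.symm)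
      rw [this]; exact hτm
    · intro hq hqτ
      have : q = closedPoint O₁ := PrimeSpectrum.ext (show q.asIdeal = maximalIdeal O₁ by
        rw [(IsDiscreteValuationRing.irreducible_iff_uniformizer τ).1 hτirr]
        refine le_antisymm ?_ ((Ideal.span_singleton_le_iff_mem _).2 hqτ)
        rw [← (IsDiscreteValuationRing.irreducible_iff_uniformizer τ).1 hτirr]
        exact IsLocalRing.le_maximalIdeal q.2.ne_top)
      rw [this, Scheme.fromSpecStalk_closedPoint] at hq
      exact hx hq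
  let κ := IsOpenImmersion.isoOfRangeEq i₁ (pullback.snd U.ι (Y.fromSpecStalk x)) hr
  have hκ : κ.hom ≫ pullback.snd U.ι (Y.fromSpecStalk x) = i₁ := IsOpenImmersion.isoOfRangeEq_hom_fac _ _ hr
  let iF : Spec (CommRingCat.of K₁) ⟶ Spec (CommRingCat.of F) := Spec.map (CommRingCat.ofHom (algebraMap F K₁))
  have hgen : i₁ ≫ Y.fromSpecStalk x ≫ p = iF ≫ sF := by
    rw [← Scheme.SpecMap_stalkMap_fromSpecStalk, ← Spec.map_comp_assoc, ← Spec.map_comp_assoc]
    congr 2
    exact CommRingCat.hom_ext (IsScalarTower.algebraMap_eq O F K₁)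
  have hrange₀ : Set.range (i₁ ≫ Y.fromSpecStalk x).base ⊆ Set.range U₀.ι.base := by
    rintro _ ⟨q, rfl⟩
    rw [Scheme.Opens.range_ι, hU₀]
    have hpre : p ⁻¹ᵁ (X.basicOpen (gl f ϖ)) = Y.basicOpen (gl g t) := by
      rw [Scheme.preimage_basicOpen_top, ← gl_comp, basicOpen_gl, basicOpen_gl, hcomm, Scheme.Hom.comp_preimage]
      congr 1
      apply TopologicalSpace.Opens.ext
      ext q
      show algebraMap V V₁ ϖ ∉ q.asIdeal ↔ t ∉ q.asIdeal
      rw [← htn, q.2.pow_mem_iff_mem n (Nat.pos_of_ne_zero hn0)]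
    rw [← hpre]
    show p.base ((i₁ ≫ Y.fromSpecStalk x).base q) ∈ X.basicOpen (gl f ϖ)
    rw [← Scheme.Hom.comp_apply, Category.assoc, hgen, Scheme.Hom.comp_apply, ← SetLike.mem_coe,
      ← range_generic V K ϖ hϖ f]
    exact hrangeF ⟨_, rfl⟩
  let a₀ : Spec (CommRingCat.of K₁) ⟶ (U₀ : Scheme.{u}) := IsOpenImmersion.lift U₀.ι (i₁ ≫ Y.fromSpecStalk x) hrange₀
  have ha₀ : a₀ ≫ U₀.ι = i₁ ≫ Y.fromSpecStalk x := IsOpenImmersion.lift_fac _ _ _
  have ha : κ.hom ≫ pullback.fst U.ι (Y.fromSpecStalk x) = a₀ ≫ Y.homOfLE hle := by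
    rw [← cancel_mono U.ι, Category.assoc, Category.assoc, pullback.condition, ← Category.assoc, hκ,
      Y.homOfLE_ι, ha₀]
  have hb : a₀ ≫ pη = iF ≫ φ := by
    rw [← cancel_mono (jη), Category.assoc, Category.assoc, hpη, reassoc_of% ha₀, hgen, hφ]
  let Ex' : FEt.Cat (Spec O₁) := Ex
  refine ⟨Ex', ⟨?_⟩⟩
  refine (Spread.restrictId _).symm ≪≫ Spread.restrictComp κ.inv κ.hom (𝟙 _) κ.inv_hom_id.symm _ ≪≫ ?_ ≪≫
    (Spread.restrictComp κ.inv κ.hom (𝟙 _) κ.inv_hom_id.symm _).symm ≪≫ Spread.restrictId _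
  refine (FEt.restrict κ.inv).mapIso ?_
  refine (Spread.restrictComp κ.hom (pullback.snd U.ι (Y.fromSpecStalk x)) i₁ hκ.symm Ex).symm ≪≫ iEx ≪≫ ?_
  exact (Spread.restrictComp iF φ (iF ≫ φ) rfl Xt).symm ≪≫ Spread.restrictComp a₀ pη _ hb.symm Xt ≪≫
    (FEt.restrict a₀).mapIso eW.symm ≪≫ Spread.restrictSquare a₀ (Y.homOfLE hle) κ.hom
      (pullback.fst U.ι (Y.fromSpecStalk x)) ha.symm W

set_option maxHeartbeats 800000 in
-- Noetherian induction
/-- The tame cover extends over a Noetherian scheme smooth over `V₁`. -/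
theorem exists_extend (hϖ : Irreducible ϖ) (ht : Irreducible t) {n : ℕ} (htn : t ^ n = algebraMap V V₁ ϖ)
    (hn : IsUnit (n : V)) [Smooth f] [IsIntegral X] (Xt : FEt.Cat Pη) [ConnectedSpace ↥Xt.left]
    (hgal : ∀ (Ω : Type u) [Field Ω] [IsAlgClosed Ω] (ξ : Spec (CommRingCat.of Ω) ⟶ Pη)
      (s s' : FEt.fiberObj ξ Xt), ∃ σ : Aut Xt, (FEt.fiber ξ).map σ.hom s = s')
    (hdeg : Nat.card (Aut Xt) = n)
    {Y : Scheme.{u}} [IsNoetherian Y] (p : Y ⟶ X) [Flat p] (g : Y ⟶ Spec (CommRingCat.of V₁)) [Smooth g]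
    (hcomm : p ≫ f = g ≫ Spec.map (CommRingCat.ofHom (algebraMap V V₁)))
    (U₀ : Y.Opens) (hU₀ : U₀ = Y.basicOpen (gl g t)) (pη : (U₀ : Scheme.{u}) ⟶ Pη) (hpη : pη ≫ jη = U₀.ι ≫ p) :
    ∃ E : FEt.Cat Y, Nonempty ((FEt.restrict U₀.ι).obj E ≅ (FEt.restrict pη).obj Xt) := by
  suffices H : ∀ (U : Y.Opens) (hle : U₀ ≤ U) (W : FEt.Cat (U : Scheme.{u})),
      ((FEt.restrict (Y.homOfLE hle)).obj W ≅ (FEt.restrict pη).obj Xt) →
      ∃ E : FEt.Cat Y, Nonempty ((FEt.restrict U₀.ι).obj E ≅ (FEt.restrict pη).obj Xt) by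
    refine H U₀ le_rfl ((FEt.restrict pη).obj Xt) ?_
    rw [Scheme.homOfLE_rfl]
    exact Spread.restrictId _
  intro U
  induction U using WellFoundedGT.induction with
  | _ U ih =>
    intro hle W eW
    by_cases hT : U = ⊤
    · subst hT
      haveI : IsIso (⊤ : Y.Opens).ι := by rw [← Scheme.topIso_hom]; infer_instance
      refine ⟨(FEt.restrict (inv (⊤ : Y.Opens).ι)).obj W, ⟨?_⟩⟩
      exact (Spread.restrictComp U₀.ι (inv (⊤ : Y.Opens).ι) (Y.homOfLE hle)
        (by rw [IsIso.eq_comp_inv, Y.homOfLE_ι]) W).symm ≪≫ eW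
    · obtain ⟨x, hx, hmin⟩ := Spread.exists_min_point U hT
      obtain ⟨Ex, ⟨ex⟩⟩ : ∃ Ex : FEt.Cat (Spec (Y.presheaf.stalk x)), Nonempty
          ((FEt.restrict (pullback.snd U.ι (Y.fromSpecStalk x))).obj Ex ≅
            (FEt.restrict (pullback.fst U.ι (Y.fromSpecStalk x))).obj W) := by
        by_cases hdim : ringKrullDim (Y.presheaf.stalk x) < 2
        · exact exists_dvr_extension hϖ ht htn hn Xt hgal hdeg p g hcomm U₀ hU₀ pη hpη U hle W eW x hx hmin hdim
        · haveI := isRegularLocalRing_stalk g x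
          exact Spread.exists_local_extension U W x
            (PuritySch.purityHolds_of_regular _ (not_lt.1 hdim)) hx hmin
      obtain ⟨U', hle', W', hxU', ⟨eW'⟩⟩ := Spread.exists_extend_nbhd U W x Ex ex
      exact ih U' (lt_of_le_of_ne hle' fun he => hx (he ▸ hxU')) (hle.trans hle') W'
        (Spread.restrictComp (Y.homOfLE hle) (Y.homOfLE hle') _ (Y.homOfLE_homOfLE hle hle').symm W' ≪≫
          (FEt.restrict (Y.homOfLE hle)).mapIso eW' ≪≫ eW)

end Groth.Agent.TameExt51
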