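import Groth.Prelude.Def_FEt
import Mathlib.AlgebraicGeometry.Normalization
import Mathlib.RingTheory.IntegralClosure.IsIntegralClosure.Basic
import Mathlib.RingTheory.Localization.Away.Basic

/-!
# Relative normalisation and finite étale extensions across a divisor
-/

set_option autoImplicit false

set_option linter.style.haveILetI false
set_option backward.isDefEq.respectTransparency false
set_option backward.isDefEq.respectTransparency.types false

universe u

open CategoryTheory CategoryTheory.Limits AlgebraicGeometry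

namespace Groth.Agent.TameExt51

/-- A ring with reduced quotient by a non-zero-divisor is integrally closed in the localisation. -/
theorem mem_range_of_isIntegralElem {R B C : Type u} [CommRing R] [CommRing B] [CommRing C] [Algebra B C]
    (τ : B) [IsLocalization.Away τ C] (hnzd : τ ∈ nonZeroDivisors B) (hred : _root_.IsReduced (B ⧸ Ideal.span {τ}))
    (g : R →+* B) (y : C) (hy : ((algebraMap B C).comp g).IsIntegralElem y) :
    y ∈ Set.range (algebraMap B C) := by
  have hB : IsIntegral B y := by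
    obtain ⟨p, hp, hpy⟩ := hy
    exact ⟨p.map g, hp.map g, by rw [Polynomial.eval₂_map]; exact hpy⟩
  suffices H : ∀ (k : ℕ) (z : C) (x : B), IsIntegral B z → algebraMap B C x = z * algebraMap B C τ ^ k →
      z ∈ Set.range (algebraMap B C) by
    obtain ⟨k, x, hx⟩ := IsLocalization.Away.surj τ y
    exact H k y x hB hx.symm
  intro k
  induction k with
  | zero => intro z x _ hx; exact ⟨x, by rw [hx, pow_zero, mul_one]⟩
  | succ k ih =>
    intro z x hz hx
    obtain ⟨p, hp, hpz⟩ := hz
    -- `x` times a suitable power is divisible by `τ`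
    set N := p.natDegree
    have h2 : ∃ b : B, algebraMap B C (x ^ N) = algebraMap B C (τ * b) := by
      refine ⟨- ∑ i ∈ Finset.range N, p.coeff i * x ^ i * τ ^ ((k + 1) * (N - i) - 1), ?_⟩
      rw [mul_neg, Finset.mul_sum, map_neg, map_sum, eq_neg_iff_add_eq_zero]
      have h3 : p.eval₂ (algebraMap B C) z * algebraMap B C τ ^ ((k + 1) * N) = 0 := by rw [hpz, zero_mul]
      rw [Polynomial.eval₂_eq_sum_range, Finset.sum_range_succ, add_mul, Finset.sum_mul,
        show p.coeff p.natDegree = 1 from hp, map_one, one_mul, add_comm] at h3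
      rw [← h3]
      congr 1
      · rw [map_pow, hx, mul_pow, ← pow_mul]
      · refine Finset.sum_congr rfl fun i hi => ?_
        have hi' : i < N := Finset.mem_range.1 hi
        have e : (k + 1) * N = (k + 1) * i + (((k + 1) * (N - i) - 1) + 1) := by
          have : 1 ≤ (k + 1) * (N - i) := Nat.one_le_iff_ne_zero.2 (Nat.mul_ne_zero (by omega) (by omega))
          rw [Nat.sub_add_cancel this, ← mul_add, Nat.add_sub_cancel' hi'.le]
        rw [e]
        simp only [map_mul, map_pow, hx, mul_pow, ← pow_mul, pow_add, pow_one]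
        ring
    obtain ⟨b, hb⟩ := h2
    obtain ⟨⟨_, m, rfl⟩, hm⟩ := (IsLocalization.eq_iff_exists (Submonoid.powers τ) C).1 hb
    -- reduce modulo `τ`
    have hx' : x ∈ Ideal.span {τ} := by
      have hm' : x ^ N = τ * b := mul_cancel_left_mem_nonZeroDivisors (pow_mem hnzd m) |>.1 hm
      rw [← Ideal.Quotient.eq_zero_iff_mem]
      exact hred.eq_zero _ ⟨N, by
        rw [← map_pow, Ideal.Quotient.eq_zero_iff_mem, hm']
        exact Ideal.mem_span_singleton'.2 ⟨b, mul_comm _ _⟩⟩
    obtain ⟨x', rfl⟩ := Ideal.mem_span_singleton'.1 hx'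
    refine ih z x' ⟨p, hp, hpz⟩ ?_
    have hu : IsUnit (algebraMap B C τ) := IsLocalization.Away.algebraMap_isUnit τ
    rw [map_mul, pow_succ, ← mul_assoc] at hx
    exact hu.mul_right_cancel hx

theorem isIso_normalizationDesc {X Y T : Scheme.{u}} (f : X ⟶ Y) [QuasiCompact f] [QuasiSeparated f]
    (f₁ : X ⟶ T) (f₂ : T ⟶ Y) [IsIntegralHom f₂] (H : f = f₁ ≫ f₂)
    (h : ∀ V : Y.Opens, IsAffineOpen V → ∀ hle : f ⁻¹ᵁ V ≤ f₁ ⁻¹ᵁ (f₂ ⁻¹ᵁ V),
      Function.Injective (f₁.appLE (f₂ ⁻¹ᵁ V) (f ⁻¹ᵁ V) hle).hom ∧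
        ∀ y, (f.app V).hom.IsIntegralElem y → y ∈ Set.range (f₁.appLE (f₂ ⁻¹ᵁ V) (f ⁻¹ᵁ V) hle).hom) :
    IsIso (f.normalizationDesc f₁ f₂ H) := by
  set d := f.normalizationDesc f₁ f₂ H with hd
  let cov : ∀ V : Y.affineOpens, T.Opens := fun V => f₂ ⁻¹ᵁ V.1
  have hsup : iSup cov = ⊤ := by
    simp only [cov, ← Scheme.Hom.preimage_iSup, iSup_affineOpens_eq_top]; rfl
  refine (IsZariskiLocalAtTarget.iff_of_iSup_eq_top (P := MorphismProperty.isomorphisms Scheme) cov hsup).2
    fun V => ?_
  refine (isIso_morphismRestrict_iff_isIso_app d (V.2.preimage f₂)).2 ?_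
  have hpre : d ⁻¹ᵁ cov V = f.fromNormalization ⁻¹ᵁ V.1 := by
    rw [← Scheme.Hom.comp_preimage, hd, Scheme.Hom.normalizationDesc_comp]
  have hle : f ⁻¹ᵁ V.1 ≤ f₁ ⁻¹ᵁ (f₂ ⁻¹ᵁ V.1) := by rw [← Scheme.Hom.comp_preimage, ← H]
  obtain ⟨hinj, hran⟩ := h V.1 V.2 hle
  letI := (f.app V.1).hom.toAlgebra
  let e := f.normalizationObjIso V.2
  let φ : Γ(T, cov V) ⟶ CommRingCat.of (integralClosure Γ(Y, V.1) Γ(X, f ⁻¹ᵁ V.1)) :=
    d.appLE (cov V) (f.fromNormalization ⁻¹ᵁ V.1) hpre.ge ≫ e.hom
  have hφ : φ ≫ CommRingCat.ofHom (Subalgebra.val _).toRingHom = f₁.appLE (f₂ ⁻¹ᵁ V.1) (f ⁻¹ᵁ V.1) hle := by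
    simp only [φ, e, Category.assoc, Scheme.Hom.normalizationObjIso_hom_val, Scheme.Hom.appLE_comp_appLE,
      hd, Scheme.Hom.toNormalization_normalizationDesc]
    rfl
  have hb : Function.Bijective φ.hom := by
    constructor
    · intro a b hab
      exact hinj (by rw [← hφ]; exact congrArg Subtype.val hab)
    · intro y
      obtain ⟨b, hb⟩ := hran y.1 y.2
      refine ⟨b, Subtype.ext ?_⟩
      rw [← hb, ← hφ]
      rfl
  haveI : IsIso φ := (ConcreteCategory.isIso_iff_bijective φ).2 hb
  have : d.app (cov V) = φ ≫ e.inv ≫ f.normalization.presheaf.map (eqToHom hpre).op := by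
    simp [φ, Scheme.Hom.appLE_map, Scheme.Hom.app_eq_appLE]
  rw [this]
  infer_instance

theorem isAffineHom_basicOpen_ι {X : Scheme.{u}} (τ : Γ(X, ⊤)) : IsAffineHom (X.basicOpen τ).ι := by
  refine ⟨fun V hV => ?_⟩
  rw [← Scheme.Hom.isAffineOpen_iff_of_isOpenImmersion (X.basicOpen τ).ι]
  have : (X.basicOpen τ).ι ''ᵁ ((X.basicOpen τ).ι ⁻¹ᵁ V) = X.basicOpen ((X.presheaf.map (homOfLE le_top).op).hom τ : Γ(X, V)) := by
    rw [Scheme.Hom.image_preimage_eq_opensRange_inf, Scheme.Opens.opensRange_ι, Scheme.basicOpen_res, inf_comm]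
  rw [this]
  exact hV.basicOpen _

/-- Finite étale covers of `U = basicOpen τ` which extend locally extend globally. -/
theorem exists_extend_basicOpen {X : Scheme.{u}} (τ : Γ(X, ⊤)) (T : FEt.Cat (X.basicOpen τ : Scheme.{u}))
    (hτ : ∀ (E : Scheme.{u}) (g : E ⟶ X), Etale g → ∀ B : E.Opens, IsAffineOpen B →
      let t : Γ(E, B) := (g.appLE ⊤ B le_top).hom τ
      t ∈ nonZeroDivisors Γ(E, B) ∧ _root_.IsReduced (Γ(E, B) ⧸ Ideal.span {t}))
    (hext : ∀ W : X.affineOpens, ∃ (E : FEt.Cat (W.1 : Scheme.{u}))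
      (j : pullback (T.hom ≫ (X.basicOpen τ).ι) W.1.ι ⟶ E.left), IsOpenImmersion j ∧
        Set.range j.base = E.hom.base ⁻¹' (W.1.ι.base ⁻¹' (X.basicOpen τ : Set X)) ∧
        j ≫ E.hom = pullback.snd (T.hom ≫ (X.basicOpen τ).ι) W.1.ι) :
    ∃ Y : FEt.Cat X, Nonempty ((FEt.restrict (X.basicOpen τ).ι).obj Y ≅ T) := by
  let U := X.basicOpen τ
  let th : T.left ⟶ (U : Scheme.{u}) := T.hom
  haveI hth : IsFinite th := T.prop.1
  haveI : IsAffineHom U.ι := isAffineHom_basicOpen_ι τ
  let f : T.left ⟶ X := th ≫ U.ι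
  have hY : FEt.prop f.fromNormalization := by
    have key : ∀ W : X.affineOpens, FEt.prop (pullback.snd f.fromNormalization W.1.ι) := by
      intro W
      obtain ⟨E, j, hj, hrange, hcomp⟩ := hext W
      let g : E.left ⟶ (W.1 : Scheme.{u}) := E.hom
      haveI : IsFinite g := E.prop.1
      haveI : Etale g := E.prop.2
      haveI := hj
      let f' := pullback.snd f W.1.ι
      have H : f' = j ≫ g := hcomp.symm
      haveI : IsIso (f'.normalizationDesc j g H) := by
        refine isIso_normalizationDesc f' j g H fun V hV hle => ?_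
        let B := g ⁻¹ᵁ V
        have hB : IsAffineOpen B := hV.preimage g
        obtain ⟨hnzd, hred⟩ := hτ E.left (g ≫ W.1.ι) inferInstance B hB
        let t : Γ(E.left, B) := ((g ≫ W.1.ι).appLE ⊤ B le_top).hom τ
        have hpre : f' ⁻¹ᵁ V = j ⁻¹ᵁ B := by rw [H, Scheme.Hom.comp_preimage]
        have himg : j ''ᵁ (f' ⁻¹ᵁ V) = E.left.basicOpen t := by
          rw [hpre, Scheme.Hom.image_preimage_eq_opensRange_inf]
          apply TopologicalSpace.Opens.ext
          simp only [t, Scheme.Hom.appLE, CommRingCat.comp_apply, Scheme.basicOpen_res]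
          rw [← Scheme.preimage_basicOpen]
          simp only [TopologicalSpace.Opens.coe_inf, Scheme.Hom.coe_opensRange]
          rw [hrange, Set.inter_comm]
          rfl
        letI : Algebra Γ(E.left, B) Γ(pullback f W.1.ι, f' ⁻¹ᵁ V) := (j.appLE B (f' ⁻¹ᵁ V) hle).hom.toAlgebra
        haveI : IsLocalization.Away t Γ(pullback f W.1.ι, f' ⁻¹ᵁ V) := by
          haveI := hB.isLocalization_basicOpen t
          let ι : Γ(E.left, E.left.basicOpen t) ≅ Γ(pullback f W.1.ι, f' ⁻¹ᵁ V) :=
            E.left.presheaf.mapIso (eqToIso himg).op ≪≫ j.appIso (f' ⁻¹ᵁ V)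
          have hι : ∀ b : Γ(E.left, B), ι.hom.hom (algebraMap Γ(E.left, B) Γ(E.left, E.left.basicOpen t) b) =
              algebraMap Γ(E.left, B) Γ(pullback f W.1.ι, f' ⁻¹ᵁ V) b := by
            intro b
            have : CommRingCat.ofHom (algebraMap Γ(E.left, B) Γ(E.left, E.left.basicOpen t)) ≫ ι.hom =
                j.appLE B (f' ⁻¹ᵁ V) hle := by
              simp only [RingHom.algebraMap_toAlgebra, CommRingCat.ofHom_hom, ι, Iso.trans_hom,
                Functor.mapIso_hom, Iso.op_hom, eqToIso.hom, ← Functor.map_comp_assoc,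
                Scheme.Hom.appIso_hom', Scheme.Hom.map_appLE]
            exact congr($(this).hom b)
          exact IsLocalization.isLocalization_of_algEquiv (Submonoid.powers t)
            (AlgEquiv.ofRingEquiv (f := ι.commRingCatIsoToRingEquiv) hι)
        exact ⟨IsLocalization.injective (Γ(pullback f W.1.ι, f' ⁻¹ᵁ V))
            (Submonoid.powers_le.2 hnzd),
          fun y hy => mem_range_of_isIntegralElem t hnzd hred (g.app V).hom y (by
            have e : ((algebraMap Γ(E.left, B) Γ(pullback f W.1.ι, f' ⁻¹ᵁ V)).comp (g.app V).hom) = (f'.app V).hom := by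
              rw [RingHom.algebraMap_toAlgebra, ← CommRingCat.hom_comp, Scheme.Hom.app_eq_appLE,
                Scheme.Hom.appLE_comp_appLE]
              simp only [← H, Scheme.Hom.app_eq_appLE]
            rw [e]; exact hy)⟩
      have hg : FEt.prop f'.fromNormalization := by
        rw [← Scheme.Hom.normalizationDesc_comp f' j g H, MorphismProperty.cancel_left_of_respectsIso FEt.prop]
        exact E.prop
      rw [← MorphismProperty.cancel_left_of_respectsIso FEt.prop (f.normalizationPullback W.1.ι),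
        Scheme.Hom.normalizationPullback_snd]
      exact hg
    exact ⟨IsZariskiLocalAtTarget.of_openCover
        (X.openCoverOfIsOpenCover (fun W : X.affineOpens => W.1) (iSup_affineOpens_eq_top X)) fun W => (key W).1,
      IsZariskiLocalAtTarget.of_openCover
        (X.openCoverOfIsOpenCover (fun W : X.affineOpens => W.1) (iSup_affineOpens_eq_top X)) fun W => (key W).2⟩
  refine ⟨MorphismProperty.Over.mk ⊤ f.fromNormalization hY, ⟨?_⟩⟩
  let f' := pullback.snd f U.ι
  let p := pullback.fst f U.ι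
  have hp : p ≫ th = f' := by
    rw [← cancel_mono U.ι, Category.assoc]
    exact pullback.condition
  haveI : IsIso p := by
    refine ⟨pullback.lift (𝟙 _) th (Category.id_comp _), ?_, pullback.lift_fst _ _ _⟩
    apply pullback.hom_ext
    · rw [Category.assoc, pullback.lift_fst, Category.comp_id, Category.id_comp]
    · rw [Category.assoc, pullback.lift_snd, Category.id_comp]; exact hp
  haveI : IsIntegralHom f' := by rw [← hp]; infer_instance
  refine MorphismProperty.Over.isoMk ((asIso (f.normalizationPullback U.ι)).symm ≪≫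
    (asIso f'.toNormalization).symm ≪≫ asIso p) ?_
  show (inv (f.normalizationPullback U.ι) ≫ inv f'.toNormalization ≫ p) ≫ th = pullback.snd f.fromNormalization U.ι
  rw [Category.assoc, Category.assoc, hp, IsIso.inv_comp_eq, IsIso.inv_comp_eq,
    Scheme.Hom.normalizationPullback_snd, Scheme.Hom.toNormalization_fromNormalization]

end Groth.Agent.TameExt51
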