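import Mathlib.NumberTheory.RamificationInertia.Galois
import Mathlib.RingTheory.DedekindDomain.PID
import Mathlib.RingTheory.DedekindDomain.IntegralClosure
import Mathlib.RingTheory.DiscreteValuationRing.Basic
import Mathlib.RingTheory.Unramified.Pi
import Mathlib.RingTheory.Unramified.Field
import Mathlib.RingTheory.Artinian.Module
import Mathlib.FieldTheory.PurelyInseparable.Basic
import Mathlib.RingTheory.IntegralClosure.IntegralRestrict

/-!
# The integral closure of a discrete valuation ring in a Galois extension of degree invertible in it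
-/

universe u

open IsLocalRing

namespace Groth.Agent.TameExt51

/-- A finite field extension of degree invertible in the base is separable. -/
theorem isSeparable_of_finrank_ne_zero (κ E : Type*) [Field κ] [Field E] [Algebra κ E] [FiniteDimensional κ E]
    (h : ((Module.finrank κ E : ℕ) : κ) ≠ 0) : Algebra.IsSeparable κ E := by
  rw [isSeparable_iff_finInsepDegree_eq_one]
  obtain ⟨q, hq⟩ := ExpChar.exists κ
  obtain ⟨r, hr⟩ := finInsepDegree_eq_pow κ E q
  cases hq with
  | zero => rw [hr, one_pow]
  | prime hp =>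
    by_contra hne
    apply h
    have hr0 : r ≠ 0 := fun h0 => hne (by rw [hr, h0, pow_zero])
    rw [← Field.finSepDegree_mul_finInsepDegree κ E, hr, Nat.cast_mul, Nat.cast_pow, CharP.cast_eq_zero κ q,
      zero_pow hr0, mul_zero]

variable (O F L : Type u) [CommRing O] [IsDomain O] [IsDiscreteValuationRing O] [Field F] [Algebra O F]
  [IsFractionRing O F] [Field L] [Algebra F L] [Algebra O L] [IsScalarTower O F L] [FiniteDimensional F L]
  [IsGalois F L]
  (S : Type u) [CommRing S] [Algebra O S] [Algebra S L] [IsScalarTower O S L] [IsIntegralClosure S O L]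

/-- The tame structure of the integral closure. -/
theorem exists_tame (ϖ : O) (hϖ : Irreducible ϖ) (hn : IsUnit ((Module.finrank F L : ℕ) : O)) :
    ∃ (π : S) (v : Sˣ) (e : ℕ), e ∣ Module.finrank F L ∧ algebraMap O S ϖ = v * π ^ e ∧
      Algebra.FormallyUnramified O (S ⧸ Ideal.span {π}) := by
  classical
  have : IsDomain S :=
    (IsIntegralClosure.equiv O S L (integralClosure O L)).toMulEquiv.isDomain (integralClosure O L)
  have : IsDedekindDomain S := IsIntegralClosure.isDedekindDomain O F L S
  have : Module.Finite O S := IsIntegralClosure.finite O F L S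
  have : IsFractionRing S L := IsIntegralClosure.isFractionRing_of_finite_extension O F L S
  let : MulSemiringAction Gal(L/F) S := IsIntegralClosure.MulSemiringAction O F L S
  have : IsGaloisGroup Gal(L/F) O S := IsGaloisGroup.of_isFractionRing _ _ _ F L
  have hinj : Function.Injective (algebraMap O S) := by
    intro a b hab
    have h1 := congrArg (algebraMap S L) hab
    rw [← IsScalarTower.algebraMap_apply, ← IsScalarTower.algebraMap_apply, IsScalarTower.algebraMap_apply O F L,
      IsScalarTower.algebraMap_apply O F L] at h1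
    exact IsFractionRing.injective O F ((algebraMap F L).injective h1)
  have : FaithfulSMul O S := (faithfulSMul_iff_algebraMap_injective O S).2 hinj
  have : Module.IsTorsionFree O S := inferInstance
  have hm : maximalIdeal O = Ideal.span {ϖ} := hϖ.maximalIdeal_eq
  -- primes of `S`
  have hover : ∀ Q : Ideal S, Q.IsMaximal → Q ∈ (maximalIdeal O).primesOver S := fun Q hQ =>
    ⟨hQ.isPrime, ⟨(IsLocalRing.eq_maximalIdeal (Ideal.IsMaximal.under O Q)).symm⟩⟩
  have hfin : ((maximalIdeal O).primesOver S).Finite := Algebra.QuasiFinite.finite_primesOver _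
  have : IsPrincipalIdealRing S :=
    IsPrincipalIdealRing.of_finite_maximals (hfin.subset hover)
  let b := algebraMap O S ϖ
  have hb0 : b ≠ 0 := fun h => hϖ.ne_zero (hinj (h.trans (map_zero _).symm))
  have hbQ : ∀ Q : Ideal S, Q.IsMaximal → b ∈ Q := fun Q hQ => by
    have h1 := (hover Q hQ).2.over
    have h2 : ϖ ∈ maximalIdeal O := by rw [hm]; exact Ideal.mem_span_singleton_self ϖ
    rw [h1] at h2
    exact h2
  obtain ⟨π, hπ⟩ := (IsPrincipalIdealRing.principal ((Ideal.span {b}).radical)).principal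
  rw [Ideal.submodule_span_eq] at hπ
  have hπmem : ∀ Q : Ideal S, Q.IsMaximal → π ∈ Q := fun Q hQ => by
    have : (Ideal.span {b}).radical ≤ Q :=
      (hQ.isPrime.radical_le_iff).2 ((Ideal.span_singleton_le_iff_mem Q).2 (hbQ Q hQ))
    exact this (hπ ▸ Ideal.mem_span_singleton_self π)
  have hbπ : π ∣ b := by
    rw [← Ideal.mem_span_singleton, ← hπ]
    exact Ideal.le_radical (Ideal.mem_span_singleton_self b)
  obtain ⟨Q₀, hQ₀⟩ := Ideal.exists_maximal S
  have hπ0 : π ≠ 0 := fun h => hb0 (zero_dvd_iff.1 (h ▸ hbπ))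
  have hπu : ¬ IsUnit π := fun h => hQ₀.ne_top (Ideal.eq_top_of_isUnit_mem _ (hπmem Q₀ hQ₀) h)
  obtain ⟨e, c, hc, hbe⟩ := WfDvdMonoid.max_power_factor' hb0 hπu
  -- `c` is a unit
  have hsmulπ : ∀ σ : Gal(L/F), Associated (σ • π) π := by
    have key : ∀ σ : Gal(L/F), π ∣ σ • π := fun σ => by
      rw [← Ideal.mem_span_singleton, ← hπ]
      obtain ⟨k, hk⟩ : π ∈ (Ideal.span {b}).radical := hπ ▸ Ideal.mem_span_singleton_self π
      refine ⟨k, ?_⟩
      obtain ⟨r, hr⟩ := Ideal.mem_span_singleton.1 hk
      rw [← smul_pow', hr, smul_mul', show σ • b = b from smul_algebraMap σ ϖ]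
      exact Ideal.mem_span_singleton.2 (dvd_mul_right _ _)
    intro σ
    refine associated_of_dvd_dvd ?_ (key σ)
    obtain ⟨r, hr⟩ := key σ⁻¹
    exact ⟨σ • r, by rw [← smul_mul', ← hr, smul_inv_smul]⟩
  have hcu : IsUnit c := by
    obtain ⟨Q, hQ, hcQ⟩ : ∃ Q : Ideal S, Q.IsMaximal ∧ c ∉ Q := by
      by_contra! h
      refine hc (Ideal.mem_span_singleton.1 (hπ ▸ ?_))
      rw [Ideal.radical_eq_sInf, Ideal.mem_sInf]
      intro P hP
      have hPne : P ≠ ⊥ := fun hbot => hb0 (by
        have := hP.1 (Ideal.mem_span_singleton_self b); rwa [hbot, Ideal.mem_bot] at this)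
      exact h P (hP.2.isMaximal hPne)
    by_contra hnu
    obtain ⟨Q', hQ', hcQ'⟩ := exists_max_ideal_of_mem_nonunits hnu
    have hQp := hover Q hQ
    have hQ'p := hover Q' hQ'
    have := hQp.1; have := hQp.2; have := hQ'p.1; have := hQ'p.2
    obtain ⟨σ, hσ⟩ := Ideal.exists_smul_eq_of_isGaloisGroup (maximalIdeal O) Q' Q Gal(L/F)
    have hσc : σ • c ∈ Q := hσ ▸ Ideal.smul_mem_pointwise_smul σ c Q' hcQ'
    obtain ⟨w, hw⟩ := hsmulπ σ
    have h1 : σ • b = b := smul_algebraMap σ ϖ
    rw [hbe, smul_mul', smul_pow'] at h1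
    have h5 : (σ • π) ^ e * σ • (c : S) = (σ • π) ^ e * ((w : S) ^ e * c) := by
      rw [h1, ← mul_assoc, ← mul_pow, hw]
    have h2 : σ • c = (w : S) ^ e * c := by
      have h4 : (σ • π) ^ e ≠ 0 := pow_ne_zero e (by simpa using (hsmulπ σ).ne_zero_iff.2 hπ0)
      exact mul_left_cancel₀ h4 h5
    rw [h2] at hσc
    exact hcQ ((Ideal.unit_mul_mem_iff_mem _ ((Units.isUnit w).pow e)).1 hσc)
  obtain ⟨v, rfl⟩ := hcu
  refine ⟨π, v, e, ?_, by rw [mul_comm]; exact hbe, ?_⟩
  · -- norms
    have h1 : Algebra.intNorm O S b = ϖ ^ Module.finrank F L := by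
      apply IsFractionRing.injective O F
      rw [Algebra.algebraMap_intNorm (K := F) (L := L), ← IsScalarTower.algebraMap_apply,
        IsScalarTower.algebraMap_apply O F L, Algebra.norm_algebraMap, map_pow]
    rw [hbe, map_mul, map_pow] at h1
    have hvu : IsUnit (Algebra.intNorm O S (v : S)) := v.isUnit.map _
    have h2 := congrArg (IsDiscreteValuationRing.addVal O) h1
    rw [IsDiscreteValuationRing.addVal_mul, IsDiscreteValuationRing.addVal_pow,
      IsDiscreteValuationRing.addVal_pow, IsDiscreteValuationRing.addVal_uniformizer hϖ,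
      IsDiscreteValuationRing.addVal_eq_zero_iff.2 hvu, add_zero] at h2
    simp only [nsmul_eq_mul, mul_one] at h2
    cases hval : IsDiscreteValuationRing.addVal O (Algebra.intNorm O S π) with
    | top =>
      rw [hval] at h2
      rcases eq_or_ne e 0 with rfl | he
      · rw [Nat.cast_zero, zero_mul] at h2
        exact ⟨0, by exact_mod_cast h2.symm⟩
      · rw [ENat.mul_top (by exact_mod_cast he)] at h2
        exact absurd h2.symm (ENat.natCast_ne_top _)
    | coe a =>
      rw [hval] at h2
      exact ⟨a, by exact_mod_cast h2.symm⟩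
  · -- the quotient is unramified
    let ι := (maximalIdeal O).primesOver S
    have : Finite ι := hfin
    have hmax : ∀ Q : ι, Q.1.IsMaximal := fun Q => by
      have := Q.2.1; have := Q.2.2
      exact Ideal.IsMaximal.of_liesOver_isMaximal Q.1 (maximalIdeal O)
    have hrad : Ideal.span {π} = ⨅ Q : ι, Q.1 := by
      rw [← hπ]
      refine le_antisymm (le_iInf fun Q => ?_) ?_
      · exact hπ.le.trans ((Ideal.span_singleton_le_iff_mem _).2 (hπmem _ (hmax Q)))
      · rw [Ideal.radical_eq_sInf]
        refine le_sInf fun P hP => ?_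
        have hPne : P ≠ ⊥ := fun hbot => hb0 (by
          have := hP.1 (Ideal.mem_span_singleton_self b); rwa [hbot, Ideal.mem_bot] at this)
        exact iInf_le_of_le ⟨P, hover P (hP.2.isMaximal hPne)⟩ le_rfl
    have hcop : Pairwise fun Q Q' : ι => IsCoprime Q.1 Q'.1 := fun Q Q' h => by
      have := hmax Q; have := hmax Q'
      exact Ideal.isCoprime_of_isMaximal fun h' => h (Subtype.ext h')
    let eq : (S ⧸ Ideal.span {π}) ≃ₐ[O] ∀ Q : ι, S ⧸ Q.1 :=
      AlgEquiv.ofRingEquiv (f := (Ideal.quotEquivOfEq hrad).trans (Ideal.quotientInfRingEquivPiQuotient _ hcop))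
        (fun x => rfl)
    have key : ∀ Q : ι, Algebra.FormallyUnramified O (S ⧸ Q.1) := by
      intro Q
      have := hmax Q; have := Q.2.2; have := Q.2.1
      let : Field (O ⧸ maximalIdeal O) := Ideal.Quotient.field _
      let : Field (S ⧸ Q.1) := Ideal.Quotient.field _
      have : Module.Finite (O ⧸ maximalIdeal O) (S ⧸ Q.1) := Module.Finite.of_restrictScalars_finite O _ _
      have hd : Q.1.inertiaDeg O ∣ Module.finrank F L := by
        have h := Ideal.ncard_primesOver_mul_ramificationIdxIn_mul_inertiaDegIn (maximalIdeal O) S Gal(L/F)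
        rw [IsGalois.card_aut_eq_finrank, Ideal.inertiaDegIn_eq_inertiaDeg (maximalIdeal O) Q.1 Gal(L/F)] at h
        rw [← h]; exact dvd_mul_of_dvd_right (dvd_mul_left _ _) _
      rw [Ideal.inertiaDeg_eq_of_isMaximal (maximalIdeal O) Q.1] at hd
      have hne : ((Module.finrank (O ⧸ maximalIdeal O) (S ⧸ Q.1) : ℕ) : O ⧸ maximalIdeal O) ≠ 0 := by
        obtain ⟨k, hk⟩ := hd
        have h1 : IsUnit ((Module.finrank F L : ℕ) : O ⧸ maximalIdeal O) := by
          have := hn.map (Ideal.Quotient.mk (maximalIdeal O)); rwa [map_natCast] at this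
        rw [hk, Nat.cast_mul] at h1
        exact (isUnit_of_mul_isUnit_left h1).ne_zero
      have := isSeparable_of_finrank_ne_zero _ _ hne
      have : Algebra.FormallyUnramified (O ⧸ maximalIdeal O) (S ⧸ Q.1) :=
        Algebra.FormallyUnramified.of_isSeparable _ _
      exact Algebra.FormallyUnramified.comp O (O ⧸ maximalIdeal O) (S ⧸ Q.1)
    have : Algebra.FormallyUnramified O (∀ Q : ι, S ⧸ Q.1) := (Algebra.FormallyUnramified.pi_iff _).2 key
    exact Algebra.FormallyUnramified.of_equiv eq.symm

end Groth.Agent.TameExt51
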