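import Groth.Agent.TameKummer.Basic
import Groth.Agent.GrpSchLib.SmoothReduced
import Groth.Agent.GeomReg.Basic
import Groth.Agent.RegLoc6.Basic
import Mathlib.RingTheory.AdjoinRoot
import Mathlib.RingTheory.Flat.TorsionFree
import Mathlib.RingTheory.Smooth.Flat
import Mathlib.RingTheory.DiscreteValuationRing.TFAE
import Mathlib.RingTheory.Valuation.ValuationRing
import Mathlib.RingTheory.Flat.FaithfullyFlat.Algebra

/-!
# The ring `V[t]/(tⁿ - ϖ)`, and smooth algebras over it
-/

set_option autoImplicit false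
set_option linter.style.haveILetI false
set_option linter.unusedSectionVars false

universe u

open Polynomial IsLocalRing TensorProduct AlgebraicGeometry

namespace Groth.Agent.TameExt51

section rootRing

variable (V : Type u) [CommRing V] [IsDomain V] [IsDiscreteValuationRing V] (ϖ : V) (hϖ : Irreducible ϖ)
  (n : ℕ) (hn : 1 ≤ n)

local notation "V₁" => AdjoinRoot (X ^ n - C ϖ)
local notation "t₀" => AdjoinRoot.root (X ^ n - C ϖ)

theorem root_pow : t₀ ^ n = algebraMap V V₁ ϖ := by
  have := AdjoinRoot.eval₂_root (X ^ n - C ϖ)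
  rwa [eval₂_sub, eval₂_pow, eval₂_X, eval₂_C, sub_eq_zero] at this

include hn in
theorem free_rootRing : Module.Free V V₁ ∧ Module.Finite V V₁ :=
  ⟨(monic_X_pow_sub_C ϖ (by omega)).free_adjoinRoot, (monic_X_pow_sub_C ϖ (by omega)).finite_adjoinRoot⟩

include hϖ hn in
theorem isDomain_rootRing : IsDomain V₁ := by
  have hm : (X ^ n - C ϖ).Monic := monic_X_pow_sub_C _ (by omega)
  have h := TameKummer.irreducible_X_pow_sub V (FractionRing V) hn hϖ
  have hirr : Irreducible (X ^ n - C ϖ) :=
    (hm.irreducible_iff_irreducible_map_fraction_map (K := FractionRing V)).2 (by simpa using h)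
  exact AdjoinRoot.isDomain_of_prime hirr.prime

include hϖ hn in
theorem root_ne_zero : t₀ ≠ 0 := by
  intro h
  haveI := (free_rootRing V ϖ n hn).1
  haveI := isDomain_rootRing V ϖ hϖ n hn
  have h2 := root_pow V ϖ n
  rw [h, zero_pow (by omega)] at h2
  exact hϖ.ne_zero ((map_eq_zero_iff _ (FaithfulSMul.algebraMap_injective V V₁)).1 h2.symm)

include hϖ hn in
theorem isDiscreteValuationRing_rootRing :
    ∃ _ : IsDomain V₁, IsDiscreteValuationRing V₁ ∧ Irreducible t₀ := by
  haveI := isDomain_rootRing V ϖ hϖ n hn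
  haveI := (free_rootRing V ϖ n hn).2
  haveI : IsNoetherianRing V₁ := IsNoetherianRing.of_finite V V₁
  haveI : Algebra.IsIntegral V V₁ := Algebra.IsIntegral.of_finite V V₁
  -- every maximal ideal is generated by `t₀`
  have hsurj : ∀ a : V₁, ∃ c : V, a - algebraMap V V₁ c ∈ Ideal.span {t₀} := by
    intro a
    obtain ⟨p, rfl⟩ := AdjoinRoot.mk_surjective a
    refine ⟨p.coeff 0, Ideal.mem_span_singleton.2 ?_⟩
    obtain ⟨q, hq⟩ := Polynomial.X_dvd_sub_C (p := p)
    refine ⟨AdjoinRoot.mk _ q, ?_⟩
    rw [← AdjoinRoot.mk_X, ← map_mul, ← hq, map_sub, AdjoinRoot.algebraMap_eq, AdjoinRoot.mk_C]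
  have key : ∀ m : Ideal V₁, m.IsMaximal → m = Ideal.span {t₀} := by
    intro m hm
    have hc : (m.comap (algebraMap V V₁)) = maximalIdeal V :=
      IsLocalRing.eq_maximalIdeal (Ideal.isMaximal_comap_of_isIntegral_of_isMaximal m)
    have hϖm : algebraMap V V₁ ϖ ∈ m := by
      rw [← Ideal.mem_comap, hc]
      exact hϖ.not_isUnit
    have htm : t₀ ∈ m := hm.isPrime.mem_of_pow_mem n (by rwa [root_pow])
    refine le_antisymm (fun a ha => ?_) ((Ideal.span_singleton_le_iff_mem _).2 htm)
    obtain ⟨c, hc'⟩ := hsurj a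
    have hcm : algebraMap V V₁ c ∈ m := by
      simpa using sub_mem ha ((Ideal.span_singleton_le_iff_mem _).2 htm hc')
    rw [← Ideal.mem_comap, hc, (IsDiscreteValuationRing.irreducible_iff_uniformizer ϖ).1 hϖ,
      Ideal.mem_span_singleton] at hcm
    obtain ⟨d, rfl⟩ := hcm
    have h2 : algebraMap V V₁ (ϖ * d) ∈ Ideal.span {t₀} := by
      rw [map_mul, ← root_pow]
      exact Ideal.mul_mem_right _ _ (Ideal.pow_mem_of_mem _ (Ideal.mem_span_singleton_self _) n (by omega))
    simpa using add_mem hc' h2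
  haveI : IsLocalRing V₁ := by
    obtain ⟨m, hm⟩ := Ideal.exists_maximal V₁
    exact IsLocalRing.of_unique_max_ideal ⟨m, hm, fun m' hm' => (key m' hm').trans (key m hm).symm⟩
  have hmax := key _ (maximalIdeal.isMaximal V₁)
  have hnf : ¬ IsField V₁ := by
    rw [IsLocalRing.isField_iff_maximalIdeal_eq, hmax, Ideal.span_singleton_eq_bot]
    exact root_ne_zero V ϖ hϖ n hn
  have : IsDiscreteValuationRing V₁ :=
    ((IsDiscreteValuationRing.TFAE V₁ hnf).out 0 4).2 (by rw [hmax]; exact ⟨⟨_, rfl⟩⟩)
  exact ⟨inferInstance, this, (IsDiscreteValuationRing.irreducible_iff_uniformizer _).2 hmax⟩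

end rootRing

/-- A uniformizer in a smooth algebra over a DVR. -/
theorem smooth_uniformizer {R B : Type u} [CommRing R] [IsDomain R] [IsDiscreteValuationRing R] [CommRing B]
    [Algebra R B] [Algebra.Smooth R B] (t : R) (ht : Irreducible t) :
    algebraMap R B t ∈ nonZeroDivisors B ∧ _root_.IsReduced (B ⧸ Ideal.span {algebraMap R B t}) := by
  constructor
  · have h := Module.Flat.isSMulRegular_of_nonZeroDivisors (M := B) (mem_nonZeroDivisors_of_ne_zero ht.ne_zero)
    rw [mem_nonZeroDivisors_iff_right]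
    intro x hx
    exact h (show t • x = t • (0 : B) by rw [smul_zero, Algebra.smul_def, mul_comm, hx])
  · let I : Ideal R := Ideal.span {t}
    haveI : I.IsMaximal := by
      rw [show I = maximalIdeal R from ((IsDiscreteValuationRing.irreducible_iff_uniformizer t).1 ht).symm]
      infer_instance
    letI : Field (R ⧸ I) := Ideal.Quotient.field I
    let A := (R ⧸ I) ⊗[R] B
    haveI : Smooth (Spec.map (CommRingCat.ofHom (algebraMap (R ⧸ I) A))) := by
      rw [HasRingHomProperty.Spec_iff (P := @Smooth)]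
      exact RingHom.smooth_algebraMap.2 inferInstance
    haveI := GrpSchLib.isReduced_of_smooth_field (Spec.map (CommRingCat.ofHom (algebraMap (R ⧸ I) A)))
    haveI : _root_.IsReduced A :=
      isReduced_of_injective (Scheme.ΓSpecIso (CommRingCat.of A)).inv.hom
        (Scheme.ΓSpecIso (CommRingCat.of A)).commRingCatIsoToRingEquiv.symm.injective
    have e : Ideal.span {algebraMap R B t} = I.map (algebraMap R B) := by
      rw [Ideal.map_span, Set.image_singleton]
    rw [e]
    let ψ : B ⧸ I.map (algebraMap R B) →+* A :=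
      ((Algebra.TensorProduct.comm R B (R ⧸ I)).toRingHom.comp
        (Algebra.TensorProduct.quotIdealMapEquivTensorQuot B I).toRingHom)
    exact isReduced_of_injective ψ
      ((Algebra.TensorProduct.comm R B (R ⧸ I)).injective.comp (Algebra.TensorProduct.quotIdealMapEquivTensorQuot B I).injective)

/-- Reducedness modulo an element and regularity localise. -/
theorem localization_reduced_mod {B S : Type u} [CommRing B] [CommRing S] [Algebra B S] (M : Submonoid B)
    [IsLocalization M S] (t : B) (hnzd : t ∈ nonZeroDivisors B) (hred : _root_.IsReduced (B ⧸ Ideal.span {t})) :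
    algebraMap B S t ∈ nonZeroDivisors S ∧ _root_.IsReduced (S ⧸ Ideal.span {algebraMap B S t}) := by
  refine ⟨IsLocalization.map_nonZeroDivisors_le M S ⟨t, hnzd, rfl⟩, ⟨fun x hx => ?_⟩⟩
  obtain ⟨a, rfl⟩ := Ideal.Quotient.mk_surjective x
  obtain ⟨k, hk⟩ := hx
  rw [← map_pow, Ideal.Quotient.eq_zero_iff_mem] at hk
  rw [Ideal.Quotient.eq_zero_iff_mem]
  obtain ⟨⟨b, s⟩, hb⟩ := IsLocalization.surj M a
  have hs : IsUnit (algebraMap B S s) := IsLocalization.map_units S s
  have h1 : algebraMap B S (b ^ k) ∈ (Ideal.span {t}).map (algebraMap B S) := by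
    rw [Ideal.map_span, Set.image_singleton, map_pow, ← hb, mul_pow]
    exact Ideal.mul_mem_right _ _ hk
  obtain ⟨c, hc, hcb⟩ := (IsLocalization.algebraMap_mem_map_algebraMap_iff M S (Ideal.span {t}) _).1 h1
  have h2 : c * b ∈ Ideal.span {t} := by
    rw [← Ideal.Quotient.eq_zero_iff_mem]
    refine hred.eq_zero _ ⟨k + 1, ?_⟩
    rw [← map_pow, Ideal.Quotient.eq_zero_iff_mem, show (c * b) ^ (k + 1) = c ^ k * b * (c * b ^ k) by ring]
    exact Ideal.mul_mem_left _ _ hcb
  have h3 : algebraMap B S (c * b) ∈ Ideal.span {algebraMap B S t} := by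
    have := Ideal.mem_map_of_mem (algebraMap B S) h2
    rwa [Ideal.map_span, Set.image_singleton] at this
  rw [map_mul, ← hb] at h3
  have hu : IsUnit (algebraMap B S c * algebraMap B S s) := (IsLocalization.map_units S ⟨c, hc⟩).mul hs
  refine (Ideal.unit_mul_mem_iff_mem _ hu).1 ?_
  rwa [mul_assoc, mul_comm (algebraMap B S s)]

/-- A DVR uniformizer from a reduced quotient. -/
theorem irreducible_of_reduced_mod {R : Type u} [CommRing R] [IsDomain R] [IsDiscreteValuationRing R] {t : R}
    (ht0 : t ≠ 0) (htm : t ∈ maximalIdeal R) (hred : _root_.IsReduced (R ⧸ Ideal.span {t})) : Irreducible t := by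
  obtain ⟨ϖ, hϖ⟩ := IsDiscreteValuationRing.exists_irreducible R
  obtain ⟨k, hk⟩ := IsDiscreteValuationRing.associated_pow_irreducible ht0 hϖ
  have : ϖ ∈ Ideal.span {t} := by
    rw [← Ideal.Quotient.eq_zero_iff_mem]
    refine hred.eq_zero _ ⟨k, ?_⟩
    rw [← map_pow, Ideal.Quotient.eq_zero_iff_mem, Ideal.mem_span_singleton]
    exact hk.dvd
  rw [(IsDiscreteValuationRing.irreducible_iff_uniformizer ϖ).1 hϖ, Ideal.mem_span_singleton] at htm
  exact (associated_of_dvd_dvd htm (Ideal.mem_span_singleton.1 this)).irreducible hϖ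

theorem isDVR_of_regular_dim_le_one {R : Type u} [CommRing R] [IsRegularLocalRing R] [IsDomain R]
    (hdim : ringKrullDim R < 2) {t : R} (ht0 : t ≠ 0) (htm : t ∈ maximalIdeal R) :
    IsDiscreteValuationRing R := by
  have hnf : ¬ IsField R := by
    rw [IsLocalRing.isField_iff_maximalIdeal_eq]
    intro h
    exact ht0 (by rw [h] at htm; exact htm)
  have h1 : (maximalIdeal R).spanFinrank ≤ 1 := by
    have h := IsRegularLocalRing.spanFinrank_maximalIdeal (R := R)
    rw [← h] at hdim
    have h' : (maximalIdeal R).spanFinrank < 2 := by exact_mod_cast hdim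
    omega
  have hfg : (maximalIdeal R).FG := IsNoetherian.noetherian _
  have hp : (maximalIdeal R).IsPrincipal := by
    have hc := Submodule.FG.exists_span_finset_card_eq_spanFinrank hfg
    obtain ⟨s, hs, hs'⟩ := hc
    rcases Nat.le_one_iff_eq_zero_or_eq_one.1 (hs.le.trans h1) with hc0 | hc1
    · rw [Finset.card_eq_zero.1 hc0, Finset.coe_empty, Submodule.span_empty] at hs'
      rw [← hs']
      exact bot_isPrincipal
    · obtain ⟨a, rfl⟩ := Finset.card_eq_one.1 hc1
      rw [Finset.coe_singleton] at hs'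
      exact ⟨⟨a, hs'.symm⟩⟩
  exact ((IsDiscreteValuationRing.TFAE R hnf).out 0 4).2 hp

theorem isDVR_of_faithfullyFlat {R S : Type u} [CommRing R] [IsNoetherianRing R] [IsLocalRing R] [CommRing S] [IsDomain S]
    [IsDiscreteValuationRing S] [Algebra R S] [Module.FaithfullyFlat R S] {τ : R} (hτ0 : algebraMap R S τ ≠ 0)
    (hτ : τ ∈ maximalIdeal R) : ∃ _ : IsDomain R, IsDiscreteValuationRing R := by
  have hinj : Function.Injective (algebraMap R S) := FaithfulSMul.algebraMap_injective R S
  haveI : IsDomain R := hinj.isDomain (algebraMap R S)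
  haveI : ValuationRing R := by
    rw [ValuationRing.iff_ideal_total]
    refine ⟨fun I J => ?_⟩
    rw [← Ideal.comap_map_eq_self_of_faithfullyFlat (B := S) I, ← Ideal.comap_map_eq_self_of_faithfullyFlat (B := S) J]
    rcases (ValuationRing.iff_ideal_total.1 (inferInstance : ValuationRing S)).total
      (I.map (algebraMap R S)) (J.map (algebraMap R S)) with h | h
    · exact Or.inl (Ideal.comap_mono h)
    · exact Or.inr (Ideal.comap_mono h)
  have hnf : ¬ IsField R := by
    rw [IsLocalRing.isField_iff_maximalIdeal_eq]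
    intro h
    rw [h, Ideal.mem_bot] at hτ
    exact hτ0 (by rw [hτ, map_zero])
  exact ⟨inferInstance, ((IsDiscreteValuationRing.TFAE R hnf).out 0 1).2 (inferInstance : ValuationRing R)⟩

end Groth.Agent.TameExt51
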